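import Cfsg.Agent.Mrg.Omega.NTwo.Core
import Cfsg.Agent.Mrg.Omega.NTwo.Kill
import Cfsg.Agent.Mrg.Omega.F4Leaf.App
import Cfsg.Agent.Mrg.Omega.S5.Pair
import Cfsg.Agent.ZN.ChoiceBase
import Cfsg.Agent.Mrg.Omega.NTwo.Zero
import Cfsg.Agent.Mrg.Omega.F4Leaf.Pos
import Cfsg.Agent.Mrg.Omega.MixOne.OfSplit

section


/-!
# LeafF4, `m = 2`, `n` 2-central (bb OMEGA #16971, #18108): standard position, `Ω₁Z(T) = Z ⟨n⟩`

`SV S P V₀ p` : `V_P = V₀ × A`, `p 0, …, p 4` the five points of `A`, `S` acts as the dihedral group `D8`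
(`01 | 23 | 4`).  `n = p 0 * p 1`, `a = p 2 * p 3`, `s = p 4`, `T = C_S(n)`, `Z = Ω₁Z(S) = V₀ × ⟨s⟩`.

* `SV.mem_zcT` : `Ω₁Z(T) = Z ∪ nZ`.
-/

set_option autoImplicit false
set_option linter.unusedSectionVars false

namespace Cfsg.Agent.Omega.F4Leaf.Cen

open Subgroup Cfsg Cfsg.Agent.MinSimple.VModule
open Cfsg.Agent.ZN (zc zl o2)
open Cfsg.Agent.Omega.MinPar (IsPar IsParS IsLoc)
open Cfsg.Agent.Omega.NTwo (Fv D8 nn aa cm cc ci conj_inj comm_iff mem_cent)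

universe u

variable {G : Type u} [Group G]

/-- Standard position, `V_P = V₀ × A`. -/
structure SV (S P V0 : Subgroup G) (p : Fin 5 → G) : Prop extends Fv P p where
  par : IsParS S P
  act : ∀ x ∈ S, ∃ d ∈ D8, ∀ i, x * p i * x⁻¹ = p (d i)
  act8 : ∀ d ∈ D8, ∃ x ∈ S, ∀ i, x * p i * x⁻¹ = p (d i)
  v0 : V0 ≤ zc S
  cen : ∀ v ∈ V0, ∀ g ∈ P, g * v * g⁻¹ = v
  zc4 : ∀ x ∈ zc S, x ∈ V0 ∨ x * p 4 ∈ V0
  zlV : ∀ x ∈ zl S P, ∃ v ∈ V0, ∃ a ∈ closure (Set.range p), x = v * a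
  pV : ∀ i, p i ∈ zl S P
  pS : ∀ i, p i ∈ S
  same : ∀ g ∈ P, ∀ k ∈ P, (∀ i, g * p i * g⁻¹ = k * p i * k⁻¹) → ∀ y ∈ zc (o2 P), g * y * g⁻¹ = k * y * k⁻¹

/-- `T = C_S(n)` -/
abbrev TT (S : Subgroup G) (p : Fin 5 → G) : Subgroup G := NTwo.Std.T S p

theorem mem_T {S : Subgroup G} {p : Fin 5 → G} {x : G} : x ∈ TT S p ↔ x ∈ S ∧ x * nn p * x⁻¹ = nn p :=
  NTwo.Std.mem_T

theorem T_le {S : Subgroup G} {p : Fin 5 → G} : TT S p ≤ S := NTwo.Std.T_le

namespace SV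

section basic

variable {S P V0 : Subgroup G} {p : Fin 5 → G} (h : SV S P V0 p)
include h

theorem le : S ≤ P := h.par.le

theorem fix {x : G} (hx : x ∈ S) : x * p 4 * x⁻¹ = p 4 := by
  obtain ⟨d, hd, h1⟩ := h.act x hx
  rw [h1, NTwo.D8_fix d hd]

theorem s_mem : p 4 ∈ zc S :=
  mem_zc.2 ⟨h.pS 4, fun _ hb => comm_iff.1 (h.fix hb), by rw [sq]; exact h.sq 4⟩

theorem part {x : G} (hx : x ∈ S) : x * nn p * x⁻¹ = nn p ∨ x * nn p * x⁻¹ = aa p := by
  obtain ⟨d, hd, h2⟩ := h.act x hx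
  rw [cm, h2, h2]
  rcases NTwo.D8_part d hd with (⟨e1, e2⟩ | ⟨e1, e2⟩) | (⟨e1, e2⟩ | ⟨e1, e2⟩)
  · left; rw [e1, e2]
  · left; rw [e1, e2]; exact h.comm _ _
  · right; rw [e1, e2]
  · right; rw [e1, e2]; exact h.comm _ _

/-- `x ∈ S` acting as `(0 2)(1 3)` -/
theorem tau : ∃ x ∈ S, ∀ i, x * p i * x⁻¹ = p (Mod.χ i) := h.act8 _ (by decide +kernel)

theorem na : nn p * aa p = p 4 := h.prod

theorem nsq : nn p * nn p = 1 := by
  rw [nn, mul_assoc, ← mul_assoc (p 1), h.comm 1 0, mul_assoc (p 0), h.sq, mul_one, h.sq]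

theorem asq : aa p * aa p = 1 := by
  rw [aa, mul_assoc, ← mul_assoc (p 3), h.comm 3 2, mul_assoc (p 2), h.sq, mul_one, h.sq]

theorem ninv : (nn p)⁻¹ = nn p := inv_eq_of_mul_eq_one_left h.nsq

theorem ainv : (aa p)⁻¹ = aa p := inv_eq_of_mul_eq_one_left h.asq

theorem a_eq : aa p = nn p * p 4 := by
  rw [← h.na, ← mul_assoc, h.nsq, one_mul]

theorem n_ne_one : nn p ≠ 1 := h.mul_ne_one (by decide)

theorem a_ne_one : aa p ≠ 1 := h.mul_ne_one (by decide)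

theorem n_ne_a : nn p ≠ aa p := fun e => h.ne 4 (by rw [← h.na, ← e, h.nsq])

theorem pcomm (i : Fin 5) : nn p * p i = p i * nn p := by
  rw [nn, mul_assoc, h.comm 1 i, ← mul_assoc, h.comm 0 i, mul_assoc]

theorem pcomm' (i : Fin 5) : aa p * p i = p i * aa p := by
  rw [aa, mul_assoc, h.comm 3 i, ← mul_assoc, h.comm 2 i, mul_assoc]

theorem an : aa p * nn p = p 4 := by
  rw [h.a_eq, h.pcomm, mul_assoc, h.nsq, mul_one]

theorem as : aa p * p 4 = nn p := by rw [← h.an, ← mul_assoc, h.asq, one_mul]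

theorem a_eq_conj {x : G} (hx : x ∈ S) (e : x * nn p * x⁻¹ = aa p) : x * aa p * x⁻¹ = nn p := by
  rw [h.a_eq, cm, e, h.fix hx, h.a_eq, mul_assoc, h.sq, mul_one]

theorem n_mem : nn p ∈ S := mul_mem (h.pS 0) (h.pS 1)

theorem a_mem : aa p ∈ S := mul_mem (h.pS 2) (h.pS 3)

theorem n_V : nn p ∈ zl S P := mul_mem (h.pV 0) (h.pV 1)

theorem a_V : aa p ∈ zl S P := mul_mem (h.pV 2) (h.pV 3)

theorem T_a {x : G} (hx : x ∈ TT S p) : x * aa p * x⁻¹ = aa p := by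
  obtain ⟨h1, h2⟩ := mem_T.1 hx
  rw [h.a_eq, cm, h2, h.fix h1]

theorem v0_S {v : G} (hv : v ∈ V0) : v ∈ S := zc_le _ (h.v0 hv)

theorem v0_sq {v : G} (hv : v ∈ V0) : v * v = 1 := by
  have := (mem_zc.1 (h.v0 hv)).2.2
  rwa [pow_two] at this

/-- no nontrivial element of `A` is in `V₀` -/
theorem p_notin (i : Fin 5) : p i ∉ V0 := by
  intro hi
  obtain ⟨j, hj, -⟩ := Fv.exists_fourth i i i
  obtain ⟨g, hg, h1⟩ := h.full (Equiv.swap i j)
  have h2 := h.cen _ hi g hg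
  rw [h1, Equiv.swap_apply_left] at h2
  exact hj (h.inj h2)

theorem n_notin : nn p ∉ V0 := by
  intro hi
  obtain ⟨g, hg, h1⟩ := h.full Mod.χ
  have h2 := h.cen _ hi g hg
  rw [nn, cm, h1, h1] at h2
  exact h.n_ne_a h2.symm

theorem le_norm_T : S ≤ normalizer (TT S p : Set G) := by
  have key : ∀ x ∈ S, ∀ y ∈ TT S p, x * y * x⁻¹ ∈ TT S p := by
    intro x hx y hy
    obtain ⟨h1, h2⟩ := mem_T.1 hy
    refine mem_T.2 ⟨mul_mem (mul_mem hx h1) (inv_mem hx), ?_⟩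
    have hx' := inv_mem hx
    have h3 : x⁻¹ * nn p * x = nn p ∨ x⁻¹ * nn p * x = aa p := by
      have := h.part hx'
      rwa [inv_inv] at this
    have h4 : y * (x⁻¹ * nn p * x) * y⁻¹ = x⁻¹ * nn p * x := by
      rcases h3 with h3 | h3
      · rw [h3, h2]
      · rw [h3, h.T_a hy]
    calc x * y * x⁻¹ * nn p * (x * y * x⁻¹)⁻¹ = x * (y * (x⁻¹ * nn p * x) * y⁻¹) * x⁻¹ := by group
      _ = nn p := by rw [h4]; group
  intro x hx
  rw [mem_normalizer_iff]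
  refine fun y => ⟨key x hx y, fun hy => ?_⟩
  have := key x⁻¹ (inv_mem hx) _ hy
  have e : x⁻¹ * (x * y * x⁻¹) * x⁻¹⁻¹ = y := by group
  rwa [e] at this

theorem two_T {x y : G} (hx : x ∈ S) (hy : y ∈ S) (hx' : x ∉ TT S p) (hy' : y ∉ TT S p) : x⁻¹ * y ∈ TT S p := by
  have h1 : x * nn p * x⁻¹ = aa p := (h.part hx).resolve_left fun e => hx' (mem_T.2 ⟨hx, e⟩)
  have h2 : y * nn p * y⁻¹ = aa p := (h.part hy).resolve_left fun e => hy' (mem_T.2 ⟨hy, e⟩)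
  refine mem_T.2 ⟨mul_mem (inv_mem hx) hy, ?_⟩
  calc x⁻¹ * y * nn p * (x⁻¹ * y)⁻¹ = x⁻¹ * (y * nn p * y⁻¹) * x := by group
    _ = x⁻¹ * (x * nn p * x⁻¹) * x := by rw [h1, h2]
    _ = nn p := by group

theorem tau_notin {x : G} (e : x * nn p * x⁻¹ = aa p) : x ∉ TT S p := fun h3 =>
  h.n_ne_a ((mem_T.1 h3).2.symm.trans e)

theorem card_S [Finite G] : Nat.card S = 2 * Nat.card (TT S p) := by
  have e : Nat.card ((TT S p).subgroupOf S) = Nat.card (TT S p) := Nat.card_congr (subgroupOfEquivOfLe T_le).toEquiv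
  have h1 := card_mul_index ((TT S p).subgroupOf S)
  obtain ⟨τ, hτ, h2⟩ := h.tau
  have h2' : τ * nn p * τ⁻¹ = aa p := by rw [nn, cm, h2, h2]; rfl
  have h3 : ((TT S p).subgroupOf S).index = 2 := by
    rw [index_eq_two_iff]
    refine ⟨⟨τ, hτ⟩⁻¹, fun b => ?_⟩
    have hτT : τ ∉ TT S p := h.tau_notin h2'
    rw [mem_subgroupOf, mem_subgroupOf]
    change Xor ((b : G) * τ⁻¹ ∈ TT S p) ((b : G) ∈ TT S p)
    by_cases hb : (b : G) ∈ TT S p
    · refine Or.inr ⟨hb, fun h4 => hτT ?_⟩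
      have := mul_mem (inv_mem h4) hb
      simpa using this
    · refine Or.inl ⟨?_, hb⟩
      have h5 := h.two_T (inv_mem b.2) (inv_mem hτ) (fun h6 => hb ((inv_mem_iff).1 h6))
        (fun h6 => hτT ((inv_mem_iff).1 h6))
      rwa [inv_inv] at h5
  rw [e, h3] at h1
  omega

theorem zc_le_T : zc S ≤ TT S p := fun _ hx =>
  mem_T.2 ⟨zc_le _ hx, comm_iff.2 ((mem_zc.1 hx).2.1 _ h.n_mem).symm⟩

theorem zc_le_zcT : zc S ≤ zc (TT S p) := fun _ hx =>
  mem_zc.2 ⟨h.zc_le_T hx, fun b hb => (mem_zc.1 hx).2.1 b (T_le hb), (mem_zc.1 hx).2.2⟩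

theorem n_zcT : nn p ∈ zc (TT S p) :=
  mem_zc.2 ⟨mem_T.2 ⟨h.n_mem, by group⟩, fun b hb => comm_iff.1 (mem_T.1 hb).2, by rw [pow_two]; exact h.nsq⟩

theorem a_zcT : aa p ∈ zc (TT S p) := by
  rw [h.a_eq]
  exact mul_mem h.n_zcT (h.zc_le_zcT h.s_mem)

end basic

section fin

variable [Finite G] (hG : IsCharacteristicTwoType G) (S : Sylow 2 G) {P V0 : Subgroup G} {p : Fin 5 → G}
  (h : SV (S : Subgroup G) P V0 p)
include hG h

theorem mem_D {d : G} : d ∈ o2 P ↔ d ∈ (S : Subgroup G) ∧ ∀ i, d * p i * d⁻¹ = p i := by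
  rw [← h.par.inf_centralizer S hG, mem_inf, mem_centralizer_iff]
  refine and_congr_right fun hd => ⟨fun h1 i => comm_iff.2 (h1 _ (h.pV i)).symm, fun h1 y hy => ?_⟩
  have key : ∀ a ∈ closure (Set.range p), a * d = d * a := by
    intro a ha
    induction ha using closure_induction with
    | mem x hx =>
      obtain ⟨i, rfl⟩ := hx
      exact (comm_iff.1 (h1 i)).symm
    | one => rw [one_mul, mul_one]
    | mul x y _ _ hx hy => rw [mul_assoc, hy, ← mul_assoc, hx, mul_assoc]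
    | inv x _ hx =>
      have : Commute x d := hx
      exact this.inv_left
  obtain ⟨v, hv, a, ha, rfl⟩ := h.zlV y hy
  have h2 : v * d = d * v := by
    have := h.cen v hv d (h.le hd)
    rw [comm_iff] at this
    exact this.symm
  rw [mul_assoc, key a ha, ← mul_assoc, h2, mul_assoc]

theorem D_le_T : o2 P ≤ TT (S : Subgroup G) p := by
  intro d hd
  obtain ⟨h1, h2⟩ := (h.mem_D hG S).1 hd
  exact mem_T.2 ⟨h1, by rw [nn, cm, h2, h2]⟩

theorem zcT_le : zc (TT (S : Subgroup G) p) ≤ zc (o2 P) := by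
  intro x hx
  obtain ⟨h1, h2, h3⟩ := mem_zc.1 hx
  have h4 : x ∈ o2 P := h.par.isLoc.char2 S hG (mem_inf.2 ⟨h.le (T_le h1),
    mem_centralizer_iff.2 fun d hd => h2 d (h.D_le_T hG S hd)⟩)
  exact mem_zc.2 ⟨h4, fun d hd => h2 d (h.D_le_T hG S hd), h3⟩

theorem p_zcD (i : Fin 5) : p i ∈ zc (o2 P) := h.par.isLoc.zl_le S hG (h.pV i)

theorem norm_zcD {g y : G} (hg : g ∈ P) (hy : y ∈ zc (o2 P)) : g * y * g⁻¹ ∈ zc (o2 P) :=
  (mem_normalizer_iff.1 (normalizer_le_normalizer_zc _ (le_normalizer_o2 P hg)) y).1 hy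

/-- `Ω₁(Z(T)) = Z ∪ nZ` -/
theorem mem_zcT {x : G} (hx : x ∈ zc (TT (S : Subgroup G) p)) :
    x ∈ zc (S : Subgroup G) ∨ nn p * x ∈ zc (S : Subgroup G) := by
  classical
  have hxF := h.zcT_le hG S hx
  let _ : CommGroup (zc (o2 P)) := { (inferInstance : Group (zc (o2 P))) with
    mul_comm := fun a b => Subtype.ext ((mem_zc.1 b.2).2.1 _ (zc_le _ a.2)) }
  choose f hfP hfA using h.full
  let act : DistribMulAction (Equiv.Perm (Fin 5)) (Additive (zc (o2 P))) :=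
    { smul := fun σ y => Additive.ofMul ⟨f σ * (y.toMul : G) * (f σ)⁻¹, h.norm_zcD hG S (hfP σ) y.toMul.2⟩
      one_smul := fun y => by
        refine congrArg Additive.ofMul (Subtype.ext ?_)
        have h1 := h.same (f 1) (hfP 1) 1 P.one_mem (fun i => by rw [hfA]; simp) _ y.toMul.2
        rw [one_mul, inv_one, mul_one] at h1
        exact h1
      mul_smul := fun σ τ y => by
        refine congrArg Additive.ofMul (Subtype.ext ?_)
        have h1 := h.same (f (σ * τ)) (hfP _) (f σ * f τ) (P.mul_mem (hfP σ) (hfP τ))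
          (fun i => by rw [hfA, ← cc, hfA, hfA]; rfl) _ y.toMul.2
        refine h1.trans ?_
        change f σ * f τ * (y.toMul : G) * (f σ * f τ)⁻¹ = f σ * (f τ * (y.toMul : G) * (f τ)⁻¹) * (f σ)⁻¹
        group
      smul_zero := fun σ => by
        refine congrArg Additive.ofMul (Subtype.ext ?_)
        change f σ * (1 : G) * (f σ)⁻¹ = 1
        group
      smul_add := fun σ x y => by
        refine congrArg Additive.ofMul (Subtype.ext ?_)
        change f σ * ((x.toMul : G) * (y.toMul : G)) * (f σ)⁻¹ =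
          f σ * (x.toMul : G) * (f σ)⁻¹ * (f σ * (y.toMul : G) * (f σ)⁻¹)
        group }
  have hact : ∀ (σ : Equiv.Perm (Fin 5)) (y : Additive (zc (o2 P))),
      (((σ • y).toMul : zc (o2 P)) : G) = f σ * (y.toMul : G) * (f σ)⁻¹ := fun _ _ => rfl
  have hext : ∀ {x y : Additive (zc (o2 P))}, ((x.toMul : zc (o2 P)) : G) = ((y.toMul : zc (o2 P)) : G) → x = y := by
    intro x y hxy
    exact congrArg Additive.ofMul (Subtype.ext hxy)
  let c : Fin 5 → Additive (zc (o2 P)) := fun i => Additive.ofMul ⟨p i, h.p_zcD hG S i⟩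
  -- a `D8`-fixed vector is in `Ω₁(Z(S))`
  have hfix : ∀ y : Additive (zc (o2 P)), (∀ d ∈ D8, d • y = y) → ((y.toMul : zc (o2 P)) : G) ∈ zc (S : Subgroup G) := by
    intro y hy
    refine mem_zc.2 ⟨h.par.isLoc.o2_le S (zc_le _ y.toMul.2), fun b hb => ?_, (mem_zc.1 y.toMul.2).2.2⟩
    obtain ⟨d, hd, h1⟩ := h.act b hb
    have h2 := congrArg (fun w : Additive (zc (o2 P)) => ((w.toMul : zc (o2 P)) : G)) (hy d hd)
    change f d * ((y.toMul : zc (o2 P)) : G) * (f d)⁻¹ = ((y.toMul : zc (o2 P)) : G) at h2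
    have h3 := h.same b (h.le hb) (f d) (hfP d) (fun i => by rw [h1, hfA]) _ y.toMul.2
    rw [h2] at h3
    exact comm_iff.1 h3
  have hM : Mod.Mo c :=
    { two := fun y => hext (by
        have := (mem_zc.1 y.toMul.2).2.2
        rw [pow_two] at this
        exact this)
      act := fun σ i => hext (hfA σ i)
      sum := hext h.prod
      fixed := fun y hy => by
        rcases h.zc4 _ (hfix y hy) with h1 | h1
        · left
          intro σ
          refine hext ?_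
          rw [hact]
          exact h.cen _ h1 _ (hfP σ)
        · right
          intro σ
          refine hext ?_
          rw [hact]
          exact h.cen _ h1 _ (hfP σ) }
  let b : Additive (zc (o2 P)) := Additive.ofMul ⟨x, hxF⟩
  have hb : ∀ σ, Mod.Rs σ → σ • b = b := by
    intro σ hσ
    have hD : σ ∈ D8 := by
      revert σ
      decide +kernel
    obtain ⟨t, ht, h1⟩ := h.act8 σ hD
    have htT : t ∈ TT (S : Subgroup G) p := by
      refine mem_T.2 ⟨ht, ?_⟩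
      rw [nn, cm, h1, h1]
      rcases hσ.1 with ⟨e0, e1⟩ | ⟨e0, e1⟩
      · rw [e0, e1]
      · rw [e0, e1]; exact h.comm _ _
    refine hext ?_
    rw [hact]
    change f σ * x * (f σ)⁻¹ = x
    rw [← h.same t (h.le ht) (f σ) (hfP σ) (fun i => by rw [h1, hfA]) x hxF, comm_iff]
    exact (mem_zc.1 hx).2.1 t htT
  rcases hM.key hb with h1 | h1
  · exact Or.inl (hfix b h1)
  · right
    have h2 := hfix _ h1
    change x * (p 0 * p 1) ∈ _ at h2
    rwa [(mem_zc.1 hx).2.1 (nn p) (mem_T.2 ⟨h.n_mem, by group⟩)]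

end fin

end SV

end Cfsg.Agent.Omega.F4Leaf.Cen

end

section


/-!
# LeafF4, `m = 2`, `n` 2-central (bb OMEGA #18108): the interface between (0)-(2) and (3)-(5)

`Out S P V₀ p r v e w` : `r` normalises `T = C_S(n)`, centralises `n` and swaps `a` and `v ∈ V₀`; `e` induces `(0 1)`
and is in `O₂(C(n))`, `w` induces `(2 4)` and is in `O₂(C(p 2 * p 4))`.
-/

set_option autoImplicit false

namespace Cfsg.Agent.Omega.F4Leaf.Cen

open Subgroup Cfsg
open Cfsg.Agent.ZN (zc zl o2)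
open Cfsg.Agent.Omega.NTwo (nn aa)

universe u

variable {G : Type u} [Group G] [Finite G]

/-- The output of (0)-(2) of #18108. -/
structure Out (S : Sylow 2 G) (P V0 : Subgroup G) (p : Fin 5 → G) (r v e w : G) : Prop
    extends SV (S : Subgroup G) P V0 p where
  char2 : IsCharacteristicTwoType G
  r_T : r ∈ normalizer (TT (S : Subgroup G) p : Set G)
  r_sq : r * r ∈ TT (S : Subgroup G) p
  r_n : r * nn p * r⁻¹ = nn p
  r_a : r * aa p * r⁻¹ = v
  r_v : r * v * r⁻¹ = aa p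
  v_mem : v ∈ V0
  Q_T : o2 (centralizer {nn p}) ≤ TT (S : Subgroup G) p
  V_Q : zl (S : Subgroup G) P ≤ o2 (centralizer {nn p})
  Q_V : ∀ q ∈ o2 (centralizer {nn p}), ∀ x ∈ zl (S : Subgroup G) P, q * x * q⁻¹ = x ∨ q * x * q⁻¹ = nn p * x
  zcQ_D : zc (o2 (centralizer {nn p})) ≤ o2 P
  e_mem : e ∈ o2 (centralizer {nn p})
  e_p : ∀ i, e * p i * e⁻¹ = p (Equiv.swap 0 1 i)
  w_mem : w ∈ o2 (centralizer {p 2 * p 4})
  w_p : ∀ i, w * p i * w⁻¹ = p (Equiv.swap 2 4 i)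
  w_Q : ∀ q ∈ o2 (centralizer {p 2 * p 4}), w * q * w⁻¹ = q ∨ w * q * w⁻¹ = p 2 * p 4 * q
  zcQ'_D : zc (o2 (centralizer {p 2 * p 4})) ≤ o2 P
  fact : ∀ y ∈ zc (o2 (centralizer {nn p})), (∀ u ∈ zc (o2 (centralizer {p 2 * p 4})), y * u = u * y) →
    y ∈ o2 (centralizer {p 2 * p 4})

/-- `n` is 2-central -/
def NCen (p : Fin 5 → G) : Prop := ∃ T : Sylow 2 G, (T : Subgroup G) ≤ centralizer {nn p}

end Cfsg.Agent.Omega.F4Leaf.Cen

end

section


/-!
# LeafF4, `m = 2`, `n` 2-central (bb OMEGA #18108 (0)): the element `r`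

`T₁ ≥ T` a Sylow 2-subgroup in `C(n)`, `r ∈ T₁ ∖ T` : `q = r a r⁻¹ ≠ a`, `r q r⁻¹ = a`, `q ∈ Ω₁Z(S)`.
-/

set_option autoImplicit false
set_option linter.unusedSectionVars false

namespace Cfsg.Agent.Omega.F4Leaf.Cen.R

open Subgroup Cfsg Cfsg.Agent.MinSimple.VModule Pointwise
open Cfsg.Agent.ZN (zc zl o2)
open Cfsg.Agent.Omega.NTwo (Fv D8 nn aa cm cc ci conj_inj comm_iff mem_cent exists_conj_le exists_conj_le' mem_smul)

universe u

variable {G : Type u} [Group G] [Finite G]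

/-- the group `T₁` -/
structure TOne (S : Subgroup G) (p : Fin 5 → G) (T₁ : Sylow 2 G) : Prop where
  le : TT S p ≤ (T₁ : Subgroup G)
  cen : ∀ x ∈ (T₁ : Subgroup G), x * nn p * x⁻¹ = nn p
  nrm : (T₁ : Subgroup G) ≤ normalizer (TT S p : Set G)
  two : ∀ x ∈ (T₁ : Subgroup G), ∀ y ∈ (T₁ : Subgroup G), x ∉ TT S p → y ∉ TT S p → x⁻¹ * y ∈ TT S p
  ex : ∃ r ∈ (T₁ : Subgroup G), r ∉ TT S p

/-- an odd power of an element normalising a Sylow subgroup is in it -/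
theorem exists_odd (T₁ : Sylow 2 G) {z : G} (hz : ∀ x ∈ (T₁ : Subgroup G), z * x * z⁻¹ ∈ (T₁ : Subgroup G)) :
    ∃ k : ℕ, z ^ (2 * k + 1) ∈ (T₁ : Subgroup G) := by
  have hp2 : Fact (Nat.Prime 2) := ⟨Nat.prime_two⟩
  obtain ⟨a, m, hm, h1⟩ := Nat.exists_eq_pow_mul_and_not_dvd (orderOf_pos z).ne' 2 (by norm_num)
  have hmo : Odd m := by
    rw [← Nat.not_even_iff_odd]
    exact fun h => hm h.two_dvd
  obtain ⟨k, hk⟩ := hmo
  refine ⟨k, ?_⟩
  rw [← hk]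
  have h2 : IsPGroup 2 (zpowers (z ^ m)) := by
    rw [IsPGroup.iff_orderOf]
    rintro ⟨y, hy⟩
    obtain ⟨j, rfl⟩ := mem_zpowers_iff.1 hy
    have h3 : orderOf ((z ^ m) ^ j) ∣ 2 ^ a := by
      rw [orderOf_dvd_iff_pow_eq_one, ← zpow_natCast, ← zpow_mul, mul_comm, zpow_mul, zpow_natCast, ← pow_mul,
        mul_comm m, ← h1, pow_orderOf_eq_one, one_zpow]
    obtain ⟨b, -, h4⟩ := (Nat.dvd_prime_pow Nat.prime_two).1 h3
    refine ⟨b, ?_⟩
    rw [← h4, ← Subgroup.orderOf_coe]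
  have hz' : z ∈ normalizer ((T₁ : Subgroup G) : Set G) := by
    rw [mem_normalizer_iff]
    intro x
    refine ⟨hz x, fun hx => ?_⟩
    have h3 : MulAut.conj z • (T₁ : Subgroup G) ≤ T₁ := by
      intro y hy
      rw [mem_pointwise_smul_iff_inv_smul_mem] at hy
      have h4 := hz _ hy
      have e : z * ((MulAut.conj z)⁻¹ • y) * z⁻¹ = y := by
        rw [← map_inv]
        change z * (MulAut.conj z⁻¹ y) * z⁻¹ = y
        rw [MulAut.conj_apply]
        group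
      rwa [e] at h4
    have h4 : MulAut.conj z • (T₁ : Subgroup G) = T₁ :=
      eq_of_le_of_card_ge h3 (Nat.card_congr (Subgroup.equivSMul (MulAut.conj z) (T₁ : Subgroup G)).toEquiv).le
    rw [← h4, mem_pointwise_smul_iff_inv_smul_mem] at hx
    have e : (MulAut.conj z)⁻¹ • (z * x * z⁻¹) = x := by
      rw [← map_inv]
      change MulAut.conj z⁻¹ (z * x * z⁻¹) = x
      rw [MulAut.conj_apply]
      group
    rwa [e] at hx
  have h5 := h2.inf_normalizer_sylow T₁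
  have h6 : z ^ m ∈ zpowers (z ^ m) ⊓ (T₁ : Subgroup G) := by
    rw [← h5]
    exact ⟨mem_zpowers _, pow_mem hz' m⟩
  exact h6.2

variable (hG : IsCharacteristicTwoType G) (S : Sylow 2 G) {P V0 : Subgroup G} {p : Fin 5 → G}
  (h : SV (S : Subgroup G) P V0 p)
include h

/-- existence of `T₁` -/
theorem exists_tOne (hN : NCen p) : ∃ T₁ : Sylow 2 G, TOne (S : Subgroup G) p T₁ := by
  have hp2 : Fact (Nat.Prime 2) := ⟨Nat.prime_two⟩
  obtain ⟨T₀, hT₀⟩ := hN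
  have hTn : TT (S : Subgroup G) p ≤ centralizer ({nn p} : Set G) := inf_le_right
  have hT2 : IsPGroup 2 (TT (S : Subgroup G) p) := S.isPGroup'.to_le T_le
  obtain ⟨T₁, hTT₁, hT₁⟩ := exists_conj_le T₀ hT₀ hT2 hTn
  have hcard : Nat.card (T₁ : Subgroup G) = 2 * Nat.card (TT (S : Subgroup G) p) := by
    rw [← h.card_S]
    exact Nat.card_congr (Sylow.equiv T₁ S).toEquiv
  have h3 : 0 < Nat.card (TT (S : Subgroup G) p) := Nat.card_pos
  have hidx : ((TT (S : Subgroup G) p).subgroupOf (T₁ : Subgroup G)).index = 2 := by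
    have e : Nat.card ((TT (S : Subgroup G) p).subgroupOf (T₁ : Subgroup G)) = Nat.card (TT (S : Subgroup G) p) :=
      Nat.card_congr (subgroupOfEquivOfLe hTT₁).toEquiv
    have h1 := card_mul_index ((TT (S : Subgroup G) p).subgroupOf (T₁ : Subgroup G))
    rw [e, hcard] at h1
    rw [mul_comm] at h1
    exact Nat.eq_of_mul_eq_mul_right h3 h1
  have hT₁n : (T₁ : Subgroup G) ≤ normalizer (TT (S : Subgroup G) p : Set G) :=
    (normal_subgroupOf_iff_le_normalizer hTT₁).1 (normal_of_index_eq_two hidx)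
  refine ⟨T₁, hTT₁, fun x hx => mem_cent.1 (hT₁ hx), hT₁n, ?_, ?_⟩
  · intro x hx y hy hxT hyT
    have h3 := mul_mem_iff_of_index_two hidx (a := (⟨x, hx⟩ : (T₁ : Subgroup G))⁻¹) (b := ⟨y, hy⟩)
    rw [inv_mem_iff] at h3
    have h4 := h3.mpr (iff_of_false (fun h => hxT (mem_subgroupOf.mp h)) (fun h => hyT (mem_subgroupOf.mp h)))
    exact mem_subgroupOf.mp h4
  · by_contra hcon
    push Not at hcon
    have h4 : Nat.card (T₁ : Subgroup G) ≤ Nat.card (TT (S : Subgroup G) p) := card_le_of_le hcon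
    omega

variable {T₁ : Sylow 2 G} (t : TOne (S : Subgroup G) p T₁)
include t

/-- `T₁` does not centralise `a` -/
theorem not_cent : ¬ ∀ x ∈ (T₁ : Subgroup G), x * aa p * x⁻¹ = aa p := by
  intro h1
  obtain ⟨x, hx, hxp⟩ := h.tau
  have hxn : x * nn p * x⁻¹ = aa p := by rw [nn, cm, hxp, hxp]; rfl
  have hxa : x * aa p * x⁻¹ = nn p := h.a_eq_conj hx hxn
  obtain ⟨Y, hY⟩ : ∃ Y : Subgroup G, Y = centralizer ({nn p} : Set G) ⊓ centralizer ({aa p} : Set G) := ⟨_, rfl⟩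
  have hYm : ∀ y, y ∈ Y ↔ y * nn p * y⁻¹ = nn p ∧ y * aa p * y⁻¹ = aa p := fun y => by
    rw [hY, mem_inf, mem_cent, mem_cent]
  have hT₁Y : (T₁ : Subgroup G) ≤ Y := fun y hy => (hYm y).2 ⟨t.cen y hy, h1 y hy⟩
  have hxT₁ : ((x • T₁ : Sylow 2 G) : Subgroup G) ≤ Y := by
    intro y hy
    rw [mem_smul] at hy
    obtain ⟨k1, k2⟩ := (hYm _).1 (hT₁Y hy)
    refine (hYm y).2 ⟨?_, ?_⟩
    · calc y * nn p * y⁻¹ = x * ((x⁻¹ * y * x) * (x⁻¹ * nn p * x) * (x⁻¹ * y * x)⁻¹) * x⁻¹ := by group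
        _ = x * ((x⁻¹ * y * x) * aa p * (x⁻¹ * y * x)⁻¹) * x⁻¹ := by rw [← hxa]; group
        _ = nn p := by rw [k2, hxa]
    · calc y * aa p * y⁻¹ = x * ((x⁻¹ * y * x) * (x⁻¹ * aa p * x) * (x⁻¹ * y * x)⁻¹) * x⁻¹ := by group
        _ = x * ((x⁻¹ * y * x) * nn p * (x⁻¹ * y * x)⁻¹) * x⁻¹ := by rw [← hxn]; group
        _ = aa p := by rw [k1, hxn]
  obtain ⟨c, hc, h2, -⟩ := exists_conj_le' (x • T₁) hxT₁ T₁.isPGroup' hT₁Y
  obtain ⟨c1, c2⟩ := (hYm c).1 hc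
  obtain ⟨z, hz⟩ : ∃ z, z = (c * x)⁻¹ := ⟨_, rfl⟩
  have h3 : ∀ y ∈ (T₁ : Subgroup G), z * y * z⁻¹ ∈ (T₁ : Subgroup G) := by
    intro y hy
    have := h2 hy
    rw [mem_smul, mem_smul] at this
    rw [hz]
    have e : (c * x)⁻¹ * y * (c * x)⁻¹⁻¹ = x⁻¹ * (c⁻¹ * y * c) * x := by group
    rwa [e]
  have hci : ∀ y : G, c * y * c⁻¹ = y → c⁻¹ * y * c = y := by
    intro y e
    calc c⁻¹ * y * c = c⁻¹ * (c * y * c⁻¹) * c := by rw [e]
      _ = y := by group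
  have hzn : z * nn p * z⁻¹ = aa p := by
    calc z * nn p * z⁻¹ = x⁻¹ * (c⁻¹ * nn p * c) * x := by rw [hz]; group
      _ = x⁻¹ * (x * aa p * x⁻¹) * x := by rw [hci _ c1, hxa]
      _ = aa p := by group
  have hza : z * aa p * z⁻¹ = nn p := by
    calc z * aa p * z⁻¹ = x⁻¹ * (c⁻¹ * aa p * c) * x := by rw [hz]; group
      _ = x⁻¹ * (x * nn p * x⁻¹) * x := by rw [hci _ c2, hxn]
      _ = nn p := by group
  obtain ⟨k, hk⟩ := exists_odd T₁ h3
  have h4 : ∀ j : ℕ, z ^ (2 * j + 1) * nn p * (z ^ (2 * j + 1))⁻¹ = aa p := by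
    intro j
    induction j with
    | zero => simpa using hzn
    | succ j ih =>
      have e : z ^ (2 * (j + 1) + 1) = z * z * z ^ (2 * j + 1) := by
        rw [← pow_two, ← pow_add]
        congr 1
        ring
      calc z ^ (2 * (j + 1) + 1) * nn p * (z ^ (2 * (j + 1) + 1))⁻¹
          = z * (z * (z ^ (2 * j + 1) * nn p * (z ^ (2 * j + 1))⁻¹) * z⁻¹) * z⁻¹ := by rw [e]; group
        _ = aa p := by rw [ih, hza, hzn]
  exact h.n_ne_a ((t.cen _ hk).symm.trans (h4 k))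

theorem ra_ne {r : G} (hr : r ∈ (T₁ : Subgroup G)) (hrT : r ∉ TT (S : Subgroup G) p) : r * aa p * r⁻¹ ≠ aa p := by
  intro h1
  refine not_cent S h t fun x hx => ?_
  by_cases hxT : x ∈ TT (S : Subgroup G) p
  · exact h.T_a hxT
  · have h2 := h.T_a (t.two r hr x hx hrT hxT)
    calc x * aa p * x⁻¹ = r * ((r⁻¹ * x) * aa p * (r⁻¹ * x)⁻¹) * r⁻¹ := by group
      _ = aa p := by rw [h2, h1]

theorem rr_mem {r : G} (hr : r ∈ (T₁ : Subgroup G)) (hrT : r ∉ TT (S : Subgroup G) p) :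
    r * r ∈ TT (S : Subgroup G) p := by
  have h1 := t.two r⁻¹ (inv_mem hr) r hr (fun h2 => hrT ((inv_mem_iff).1 h2)) hrT
  rwa [inv_inv] at h1

theorem rr_a {r : G} (hr : r ∈ (T₁ : Subgroup G)) (hrT : r ∉ TT (S : Subgroup G) p) :
    r * (r * aa p * r⁻¹) * r⁻¹ = aa p := by
  rw [cc]
  exact h.T_a (rr_mem S h t hr hrT)

theorem norm_zcT {g b : G} (hg : g ∈ normalizer (TT (S : Subgroup G) p : Set G))
    (hb : b ∈ zc (TT (S : Subgroup G) p)) : g * b * g⁻¹ ∈ zc (TT (S : Subgroup G) p) :=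
  (mem_normalizer_iff.1 (normalizer_le_normalizer_zc _ hg) _).1 hb

include hG in
/-- **(0)** `q ∈ Ω₁Z(S)` -/
theorem q_mem {r : G} (hr : r ∈ (T₁ : Subgroup G)) (hrT : r ∉ TT (S : Subgroup G) p) :
    r * aa p * r⁻¹ ∈ zc (S : Subgroup G) := by
  obtain ⟨q, hq⟩ : ∃ q, q = r * aa p * r⁻¹ := ⟨_, rfl⟩
  have hqa : q ≠ aa p := hq ▸ ra_ne S h t hr hrT
  have hrq : r * q * r⁻¹ = aa p := hq ▸ rr_a S h t hr hrT
  have hqz : q ∈ zc (TT (S : Subgroup G) p) := hq ▸ norm_zcT S h t (t.nrm hr) h.a_zcT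
  rw [← hq]
  refine (h.mem_zcT hG S hqz).resolve_right fun hnq => ?_
  have hs := h.s_mem
  have hqq : q * q = 1 := by
    have := (mem_zc.1 hqz).2.2
    rwa [pow_two] at this
  have haT : aa p ∈ TT (S : Subgroup G) p := zc_le _ h.a_zcT
  have hqT : q ∈ TT (S : Subgroup G) p := zc_le _ hqz
  have haq : aa p * q = q * aa p := (mem_zc.1 hqz).2.1 _ haT
  -- `c = a q ∈ Ω₁Z(S)`
  obtain ⟨c, hc⟩ : ∃ c, c = aa p * q := ⟨_, rfl⟩
  have hcS : c ∈ zc (S : Subgroup G) := by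
    have e : c = p 4 * (nn p * q) := by
      rw [hc, h.a_eq, ← mul_assoc]
      congr 1
      rw [h.pcomm]
    rw [e]
    exact mul_mem hs hnq
  have hcr : r * c * r⁻¹ = c := by
    rw [hc, cm, ← hq, hrq, haq]
  have hSc : ∀ x ∈ (S : Subgroup G), x * c * x⁻¹ = c := fun x hx => comm_iff.2 ((mem_zc.1 hcS).2.1 x hx)
  have hT₁c : ∀ x ∈ (T₁ : Subgroup G), x * c * x⁻¹ = c := by
    intro x hx
    by_cases hxT : x ∈ TT (S : Subgroup G) p
    · exact hSc x (T_le hxT)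
    · have h2 := hSc _ (T_le (t.two r hr x hx hrT hxT))
      calc x * c * x⁻¹ = r * ((r⁻¹ * x) * c * (r⁻¹ * x)⁻¹) * r⁻¹ := by group
        _ = c := by rw [h2, hcr]
  -- `T₁ = g S g⁻¹`
  obtain ⟨X, hX⟩ : ∃ X : Subgroup G, X = normalizer (TT (S : Subgroup G) p : Set G) ⊓ centralizer ({c} : Set G) :=
    ⟨_, rfl⟩
  have hSX : (S : Subgroup G) ≤ X := fun x hx => hX ▸ mem_inf.2 ⟨h.le_norm_T hx, mem_cent.2 (hSc x hx)⟩
  have hT₁X : (T₁ : Subgroup G) ≤ X := fun x hx => hX ▸ mem_inf.2 ⟨t.nrm hx, mem_cent.2 (hT₁c x hx)⟩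
  obtain ⟨g, hg, h1, -⟩ := exists_conj_le' S hSX T₁.isPGroup' hT₁X
  rw [hX, mem_inf, mem_cent] at hg
  obtain ⟨hgT, hgc⟩ := hg
  have h2 := h1 hr
  rw [mem_smul] at h2
  have h3 : g⁻¹ * aa p * g ∈ zc (TT (S : Subgroup G) p) := by
    have := norm_zcT S h t (inv_mem hgT) h.a_zcT
    rwa [inv_inv] at this
  -- `[S, Ω₁Z(T)] ≤ ⟨s⟩`
  have key : ∀ x ∈ (S : Subgroup G), ∀ b ∈ zc (TT (S : Subgroup G) p),
      x * b * x⁻¹ * b⁻¹ = 1 ∨ x * b * x⁻¹ * b⁻¹ = p 4 := by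
    intro x hx b hb
    rcases h.mem_zcT hG S hb with h4 | h4
    · left
      rw [(comm_iff.2 ((mem_zc.1 h4).2.1 x hx)), mul_inv_cancel]
    · have h5 : x * (nn p * b) * x⁻¹ = nn p * b := comm_iff.2 ((mem_zc.1 h4).2.1 x hx)
      have e : x * b * x⁻¹ = (x * nn p * x⁻¹)⁻¹ * (nn p * b) := by
        rw [← h5]; group
      rcases h.part hx with h6 | h6
      · left
        rw [e, h6]
        group
      · right
        rw [e, h6, h.ainv]
        calc aa p * (nn p * b) * b⁻¹ = aa p * nn p := by group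
          _ = p 4 := h.an
  have h4 : c = g * p 4 * g⁻¹ := by
    have e : c = g * ((g⁻¹ * r * g) * (g⁻¹ * aa p * g) * (g⁻¹ * r * g)⁻¹ * (g⁻¹ * aa p * g)⁻¹) * g⁻¹ := by
      calc c = q * aa p := by rw [hc, haq]
        _ = r * aa p * r⁻¹ * (aa p)⁻¹ := by rw [hq, h.ainv]
        _ = _ := by group
    rcases key _ h2 _ h3 with h5 | h5
    · exfalso
      rw [h5] at e
      have e2 : c = 1 := by rw [e]; group
      apply hqa
      rw [hc] at e2
      calc q = aa p * (aa p * q) := by rw [← mul_assoc, h.asq, one_mul]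
        _ = aa p := by rw [e2, mul_one]
    · rw [h5] at e
      exact e
  have h5 : c = p 4 := by
    have e : g⁻¹ * c * g = p 4 := by rw [h4]; group
    rw [← e]
    calc c = g⁻¹ * (g * c * g⁻¹) * g := by group
      _ = g⁻¹ * c * g := by rw [hgc]
  have h6 : q = nn p := by
    calc q = aa p * (aa p * q) := by rw [← mul_assoc, h.asq, one_mul]
      _ = nn p := by rw [← hc, h5, h.as]
  exact h.n_ne_a (conj_inj (g := r) (by rw [t.cen r hr, ← hq, h6]))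

end Cfsg.Agent.Omega.F4Leaf.Cen.R

end

section


/-!
# LeafF4, `m = 2`, `n` 2-central (bb OMEGA #18108 (1), (2)): `O₂(C(n)) ≤ T`, FACT, `v = r a r⁻¹ ∈ V₀`

`exists_out` : the output structure `Out`.
-/

set_option autoImplicit false
set_option linter.unusedSectionVars false

namespace Cfsg.Agent.Omega.F4Leaf.Cen.Q

open Subgroup Cfsg Cfsg.Agent.MinSimple.VModule Pointwise
open Cfsg.Agent.MinSimple.Basic (not_dvd_relIndex char2_centralizer)
open Cfsg.Agent.ZN (zc zl o2)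
open Cfsg.Agent.Omega.S5.Mod (le_o2_of_comm)
open Cfsg.Agent.Omega.NTwo (Fv D8 nn aa cm cc ci conj_inj comm_iff mem_cent o2_cent_conj o2_cent_conj' norm_zc_cent
  mem_zc_of norm_cent)

universe u

variable {G : Type u} [Group G]

/-! ### Actions on the five points -/

/-- `g` acts on the points as `σ` -/
def Ac (p : Fin 5 → G) (g : G) (σ : Equiv.Perm (Fin 5)) : Prop := ∀ i, g * p i * g⁻¹ = p (σ i)

section ac

variable {p : Fin 5 → G}

theorem Ac.mul {g k : G} {σ τ : Equiv.Perm (Fin 5)} (h : Ac p g σ) (h' : Ac p k τ) : Ac p (g * k) (σ * τ) := by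
  intro i
  rw [← cc, h', h]
  rfl

theorem Ac.inv {g : G} {σ : Equiv.Perm (Fin 5)} (h : Ac p g σ) : Ac p g⁻¹ σ⁻¹ := by
  intro i
  have h1 := h (σ⁻¹ i)
  rw [show σ (σ⁻¹ i) = i from σ.apply_symm_apply i] at h1
  rw [← h1]
  group

theorem Ac.pow {g : G} {σ : Equiv.Perm (Fin 5)} (h : Ac p g σ) (n : ℕ) : Ac p (g ^ n) (σ ^ n) := by
  induction n with
  | zero => intro i; simp
  | succ n ih =>
    rw [pow_succ, pow_succ]
    exact ih.mul h

theorem dec_fix : ∀ σ : Equiv.Perm (Fin 5), (σ 0 = 0 ∧ σ 1 = 1) ∨ (σ 0 = 1 ∧ σ 1 = 0) →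
    (σ 2 = 2 ∧ σ 3 = 3 ∧ σ 4 = 4) ∨ ((σ * σ) ^ 3 = 1 ∧ σ * σ ≠ 1) ∨
    ((σ * ((Equiv.swap (2 : Fin 5) 3 * Equiv.swap 3 4) * σ⁻¹ * (Equiv.swap (2 : Fin 5) 3 * Equiv.swap 3 4)⁻¹)) ^ 3 = 1 ∧
      σ * ((Equiv.swap (2 : Fin 5) 3 * Equiv.swap 3 4) * σ⁻¹ * (Equiv.swap (2 : Fin 5) 3 * Equiv.swap 3 4)⁻¹) ≠ 1) := by
  decide +kernel

theorem dec_swap : ∀ σ : Equiv.Perm (Fin 5), σ 2 = 2 → σ 3 = 3 → σ 4 = 4 → σ = 1 ∨ σ = Equiv.swap 0 1 := by
  decide +kernel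

theorem odd_eq {P : Subgroup G} (hF : Fv P p) {k : G} {κ : Equiv.Perm (Fin 5)} (hk : Ac p k κ)
    (hk2 : ∃ n : ℕ, k ^ 2 ^ n = 1) (h3 : κ ^ 3 = 1) : κ = 1 := by
  obtain ⟨n, hn⟩ := hk2
  have h1 : κ ^ 2 ^ n = 1 := by
    refine Equiv.ext fun i => ?_
    have := hk.pow (2 ^ n) i
    rw [hn, one_mul, inv_one, mul_one] at this
    exact (hF.inj this).symm
  have h2 : orderOf κ ∣ 2 ^ n := orderOf_dvd_of_pow_eq_one h1
  have h4 : orderOf κ ∣ 3 := orderOf_dvd_of_pow_eq_one h3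
  have h5 : Nat.Coprime (2 ^ n) 3 := Nat.Coprime.pow_left _ (by norm_num)
  exact orderOf_eq_one_iff.1 (Nat.eq_one_of_dvd_coprimes h5 h2 h4)

end ac

/-! ### FACT -/

theorem zc_conj [Finite G] {g x y b : G} (e : g * x * g⁻¹ = y) (hb : b ∈ zc (o2 (centralizer ({x} : Set G)))) :
    g * b * g⁻¹ ∈ zc (o2 (centralizer ({y} : Set G))) := by
  obtain ⟨k1, k2, k3⟩ := mem_zc.1 hb
  refine mem_zc.2 ⟨o2_cent_conj e k1, fun c hc => ?_, by rw [conj_pow, k3, mul_one, mul_inv_cancel]⟩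
  have h2 := k2 _ (o2_cent_conj' e hc)
  calc c * (g * b * g⁻¹) = g * (g⁻¹ * c * g * b) * g⁻¹ := by group
    _ = g * (b * (g⁻¹ * c * g)) * g⁻¹ := by rw [h2]
    _ = g * b * g⁻¹ * c := by group

theorem zc_conj' [Finite G] {g x y b : G} (e : g * x * g⁻¹ = y) (hb : b ∈ zc (o2 (centralizer ({y} : Set G)))) :
    g⁻¹ * b * g ∈ zc (o2 (centralizer ({x} : Set G))) := by
  have h1 : g⁻¹ * y * g⁻¹⁻¹ = x := by rw [← e]; group
  have h2 := zc_conj h1 hb
  rwa [inv_inv] at h2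

/-- **FACT** -/
theorem fact [Finite G] {n ρ y : G} (hn : n ∈ zc (o2 (centralizer ({ρ} : Set G))))
    (hy : y ∈ zc (o2 (centralizer ({n} : Set G)))) (hyρ : y * ρ * y⁻¹ = ρ)
    (hc : ∀ u ∈ zc (o2 (centralizer ({ρ} : Set G))), u * y * u⁻¹ = y) : y ∈ o2 (centralizer ({ρ} : Set G)) := by
  obtain ⟨K, hK⟩ : ∃ K, K = centralizer ({ρ} : Set G) ⊓
      centralizer (zc (o2 (centralizer ({ρ} : Set G))) : Set G) := ⟨_, rfl⟩
  have hKa : K ≤ centralizer ({ρ} : Set G) := hK ▸ inf_le_left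
  have hKn : K ≤ centralizer ({n} : Set G) := by
    intro k hk
    rw [hK, mem_inf, mem_centralizer_iff] at hk
    rw [mem_cent, comm_iff]
    exact (hk.2 _ hn).symm
  have hN1 : zc (o2 (centralizer ({n} : Set G))) ⊓ K ≤ o2 K := by
    refine le_o2 inf_le_right ((o2_isPGroup _).to_le (inf_le_left.trans (zc_le _))) ?_
    refine le_trans (le_inf (hKn.trans ?_) le_normalizer) inf_normalizer_le_normalizer_inf
    exact (le_normalizer_o2 _).trans (normalizer_le_normalizer_zc _)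
  have hK1 : centralizer ({ρ} : Set G) ≤ normalizer (K : Set G) := by
    rw [hK]
    refine le_trans (le_inf le_normalizer ?_) inf_normalizer_le_normalizer_inf
    exact ((le_normalizer_o2 _).trans (normalizer_le_normalizer_zc _)).trans (norm_cent _)
  have hK2 : o2 K ≤ o2 (centralizer ({ρ} : Set G)) :=
    le_o2 ((o2_le K).trans hKa) (o2_isPGroup K) (hK1.trans (normalizer_le_normalizer_o2' K))
  refine hK2 (hN1 (mem_inf.2 ⟨hy, ?_⟩))
  rw [hK, mem_inf]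
  refine ⟨mem_cent.2 hyρ, mem_centralizer_iff.2 fun u hu => ?_⟩
  exact comm_iff.1 (hc u hu)

/-! ### `V₀` -/

section v0

variable {S P V0 : Subgroup G} {p : Fin 5 → G} (h : SV S P V0 p)
include h

theorem pair_notin {i j : Fin 5} (hij : i ≠ j) : p i * p j ∉ V0 := by
  intro hi
  obtain ⟨k, hk1, hk2, -⟩ := Fv.exists_fourth i j i
  obtain ⟨g, hg, hgs⟩ := h.full (Equiv.swap j k)
  have h2 := h.cen _ hi g hg
  rw [cm, hgs, hgs, Equiv.swap_apply_of_ne_of_ne hij hk1.symm, Equiv.swap_apply_left] at h2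
  exact hk2 (h.inj (mul_left_cancel h2))

theorem tri_notin {i j : Fin 5} (_ : i ≠ j) : p i * p j * p 4 ∉ V0 := by
  intro hi
  by_cases h4 : i = 4
  · rw [h4, h.comm 4 j, mul_assoc, h.sq, mul_one] at hi
    exact h.p_notin _ hi
  by_cases h4' : j = 4
  · rw [h4', mul_assoc, h.sq, mul_one] at hi
    exact h.p_notin _ hi
  obtain ⟨k, hk1, hk2, hk3⟩ := Fv.exists_fourth i j 4
  obtain ⟨g, hg, hgs⟩ := h.full (Equiv.swap 4 k)
  have h2 := h.cen _ hi g hg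
  rw [cm, cm, hgs, hgs, hgs, Equiv.swap_apply_of_ne_of_ne h4 hk1.symm, Equiv.swap_apply_of_ne_of_ne h4' hk2.symm,
    Equiv.swap_apply_left] at h2
  exact hk3 (h.inj (mul_left_cancel h2))

theorem pP (i : Fin 5) : p i ∈ P := h.le (h.pS i)

theorem v0_comm {v : G} (hv : v ∈ V0) (i : Fin 5) : v * p i = p i * v := by
  have h1 := h.cen v hv (p i) (pP h i)
  rw [comm_iff] at h1
  exact h1.symm

end v0

variable [Finite G]

variable (hG : IsCharacteristicTwoType G) (S : Sylow 2 G) {P V0 : Subgroup G} {p : Fin 5 → G}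
  (h : SV (S : Subgroup G) P V0 p)
include h

omit [Finite G] in
theorem T_perm {x : G} (hx : x ∈ TT (S : Subgroup G) p) : x * p 2 * x⁻¹ = p 2 ∨ x * p 2 * x⁻¹ = p 3 := by
  obtain ⟨h1, h2⟩ := mem_T.1 hx
  obtain ⟨σ, hσ⟩ := h.perm x (h.le h1)
  have h3 := h.T_a hx
  rw [aa, cm, hσ, hσ] at h3
  rcases h.pair_inj (fun e => absurd (σ.injective e) (by decide)) (by decide) h3 with ⟨e, -⟩ | ⟨e, -⟩
  · left; rw [hσ, e]
  · right; rw [hσ, e]

omit [Finite G] in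
theorem exists_two {Q : Subgroup G} (hQ : IsPGroup 2 Q) {x : G} (hx : x ∈ Q) : ∃ n : ℕ, x ^ 2 ^ n = 1 := by
  obtain ⟨n, hn⟩ := hQ ⟨x, hx⟩
  exact ⟨n, by simpa using congrArg Subtype.val hn⟩

/-- `O₂(C(n)) ∩ P` fixes `2`, `3`, `4` -/
theorem fix_of_mem {x : G} (hx : x ∈ o2 (centralizer ({nn p} : Set G))) (hP : x ∈ P) :
    ∃ σ, Ac p x σ ∧ σ 2 = 2 ∧ σ 3 = 3 ∧ σ 4 = 4 := by
  obtain ⟨σ, hσ⟩ := h.perm x hP
  have hn : x * nn p * x⁻¹ = nn p := mem_cent.1 (o2_le _ hx)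
  have h01 : (σ 0 = 0 ∧ σ 1 = 1) ∨ (σ 0 = 1 ∧ σ 1 = 0) := by
    rw [nn, cm, hσ, hσ] at hn
    exact h.pair_inj (fun e => absurd (σ.injective e) (by decide)) (by decide) hn
  obtain ⟨l, hl, hlσ⟩ := h.full (Equiv.swap (2 : Fin 5) 3 * Equiv.swap 3 4)
  have hln : l * nn p * l⁻¹ = nn p := by
    rw [nn, cm, hlσ, hlσ]
    rfl
  have hy : x * (l * x⁻¹ * l⁻¹) ∈ o2 (centralizer ({nn p} : Set G)) := mul_mem hx (o2_cent_conj hln (inv_mem hx))
  have hσ' : Ac p x σ := hσ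
  have hlσ' : Ac p l (Equiv.swap (2 : Fin 5) 3 * Equiv.swap 3 4) := hlσ
  rcases dec_fix σ h01 with h1 | ⟨h1, h2⟩ | ⟨h1, h2⟩
  · exact ⟨σ, hσ, h1⟩
  · exact absurd (odd_eq h.toFv (hσ'.mul hσ') (exists_two S h (o2_isPGroup _) (mul_mem hx hx)) h1) h2
  · exact absurd (odd_eq h.toFv (hσ'.mul ((hlσ'.mul hσ'.inv).mul hlσ'.inv))
      (exists_two S h (o2_isPGroup _) hy) h1) h2

include hG

theorem not_P {T₁ : Sylow 2 G} (t : R.TOne (S : Subgroup G) p T₁) {r : G} (hr : r ∈ (T₁ : Subgroup G))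
    (hrT : r ∉ TT (S : Subgroup G) p) : r ∉ P := by
  intro hP
  obtain ⟨σ, hσ⟩ := h.perm r hP
  have h1 := R.q_mem hG S h t hr hrT
  rw [aa, cm, hσ, hσ] at h1
  have h23 : σ 2 ≠ σ 3 := fun e => absurd (σ.injective e) (by decide)
  rcases h.zc4 _ h1 with h2 | h2
  · exact pair_notin h h23 h2
  · exact tri_notin h h23 h2

/-- **(1)** `O₂(C(n)) ≤ T` -/
theorem Q_le {T₁ : Sylow 2 G} (t : R.TOne (S : Subgroup G) p T₁) :
    o2 (centralizer ({nn p} : Set G)) ≤ TT (S : Subgroup G) p := by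
  intro w hw
  by_contra hwT
  have hT₁ : (T₁ : Subgroup G) ≤ centralizer ({nn p} : Set G) := fun x hx => mem_cent.2 (t.cen x hx)
  have hQT₁ : ∀ x ∈ o2 (centralizer ({nn p} : Set G)), x ∈ (T₁ : Subgroup G) := fun x hx =>
    o2_le_of_sylow T₁.isPGroup' (not_dvd_relIndex T₁ hT₁) hx
  have hwP : w ∉ P := not_P hG S h t (hQT₁ w hw) hwT
  obtain ⟨q, hq⟩ : ∃ q, q = w * aa p * w⁻¹ := ⟨_, rfl⟩
  have hqz : q ∈ zc (S : Subgroup G) := hq ▸ R.q_mem hG S h t (hQT₁ w hw) hwT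
  have hqq : q * q = 1 := by
    have := (mem_zc.1 hqz).2.2
    rwa [pow_two] at this
  have key : ∀ l ∈ P, l * nn p * l⁻¹ = nn p → w * (l * aa p * l⁻¹) * w⁻¹ = l * q * l⁻¹ := by
    intro l hl hln
    obtain ⟨u, hu⟩ : ∃ u, u = l⁻¹ * w * l := ⟨_, rfl⟩
    have huQ : u ∈ o2 (centralizer ({nn p} : Set G)) := hu ▸ o2_cent_conj' hln hw
    have huT : u ∉ TT (S : Subgroup G) p := fun h1 => hwP (by
      have h2 : u ∈ P := h.le (T_le h1)
      have e : w = l * u * l⁻¹ := by rw [hu]; group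
      rw [e]
      exact mul_mem (mul_mem hl h2) (inv_mem hl))
    have h2 := h.T_a (t.two w (hQT₁ w hw) u (hQT₁ u huQ) hwT huT)
    calc w * (l * aa p * l⁻¹) * w⁻¹ = l * (u * aa p * u⁻¹) * l⁻¹ := by rw [hu]; group
      _ = l * (w * ((w⁻¹ * u) * aa p * (w⁻¹ * u)⁻¹) * w⁻¹) * l⁻¹ := by group
      _ = l * q * l⁻¹ := by rw [h2, hq]
  obtain ⟨l, hl, hlp⟩ := h.full (Equiv.swap 3 4)
  obtain ⟨l', hl', hlp'⟩ := h.full (Equiv.swap 2 4)
  have hln : l * nn p * l⁻¹ = nn p := by rw [nn, cm, hlp, hlp]; rfl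
  have hln' : l' * nn p * l'⁻¹ = nn p := by rw [nn, cm, hlp', hlp']; rfl
  have hla : l * aa p * l⁻¹ = p 2 * p 4 := by rw [aa, cm, hlp, hlp]; rfl
  have hla' : l' * aa p * l'⁻¹ = p 4 * p 3 := by rw [aa, cm, hlp', hlp']; rfl
  have h1 := key l hl hln
  have h2 := key l' hl' hln'
  rw [hla] at h1
  rw [hla'] at h2
  have h3 : aa p * (p 2 * p 4) * (p 4 * p 3) = 1 := by
    have e : aa p * (p 2 * p 4) * (p 4 * p 3) = p 2 * p 3 * p 2 * (p 4 * p 4) * p 3 := by rw [aa]; group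
    rw [e, h.sq, mul_one, h.comm 2 3, mul_assoc (p 3), h.sq, mul_one, h.sq]
  have h4 : q * (l * q * l⁻¹) * (l' * q * l'⁻¹) = 1 := by
    have e : q * (l * q * l⁻¹) * (l' * q * l'⁻¹) = w * (aa p * (p 2 * p 4) * (p 4 * p 3)) * w⁻¹ := by
      rw [← h1, ← h2, hq]; group
    rw [e, h3]
    group
  have hq1 : q ≠ 1 := fun e => h.a_ne_one (conj_inj (g := w) (by rw [← hq, e]; group))
  rcases h.zc4 q hqz with h5 | h5
  · rw [h.cen q h5 l hl, h.cen q h5 l' hl', hqq, one_mul] at h4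
    exact hq1 h4
  · obtain ⟨v, hv⟩ : ∃ v, v = q * p 4 := ⟨_, rfl⟩
    rw [← hv] at h5
    have hqv : q = v * p 4 := by rw [hv, mul_assoc, h.sq, mul_one]
    have e1 : l * q * l⁻¹ = v * p 3 := by
      rw [hqv, cm, h.cen v h5 l hl, hlp]
      rfl
    have e2 : l' * q * l'⁻¹ = v * p 2 := by
      rw [hqv, cm, h.cen v h5 l' hl', hlp']
      rfl
    rw [e1, e2, hqv] at h4
    have c3 := v0_comm h h5 3
    have c4 := v0_comm h h5 4
    have hvv := h.v0_sq h5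
    have e3 : v * p 4 * (v * p 3) * (v * p 2) = v * (p 2 * p 3 * p 4) := by
      calc v * p 4 * (v * p 3) * (v * p 2) = v * (p 4 * v) * p 3 * v * p 2 := by group
        _ = v * v * p 4 * (p 3 * v) * p 2 := by rw [← c4]; group
        _ = v * v * (p 4 * v) * p 3 * p 2 := by rw [← c3]; group
        _ = v * v * v * (p 4 * (p 3 * p 2)) := by rw [← c4]; group
        _ = v * (p 2 * p 3 * p 4) := by
          rw [hvv, one_mul, h.comm 3 2, ← mul_assoc (p 4), h.comm 4 2, mul_assoc (p 2), h.comm 4 3, ← mul_assoc (p 2)]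
    rw [e3] at h4
    have e4 : p 2 * p 3 * p 4 = nn p := h.as
    rw [e4] at h4
    have e5 : v = nn p := by
      rw [← h.ninv]
      exact eq_inv_of_mul_eq_one_left h4
    exact h.n_notin (e5 ▸ h5)

section useT

variable {T₁ : Sylow 2 G} (t : R.TOne (S : Subgroup G) p T₁)
include t

theorem Q_act {q : G} (hq : q ∈ o2 (centralizer ({nn p} : Set G))) : Ac p q 1 ∨ Ac p q (Equiv.swap 0 1) := by
  obtain ⟨σ, hσ, s2, s3, s4⟩ := fix_of_mem S h hq (h.le (T_le (Q_le hG S h t hq)))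
  rcases dec_swap σ s2 s3 s4 with e | e
  · left; rwa [← e]
  · right; rwa [← e]

theorem Q_V {q x : G} (hq : q ∈ o2 (centralizer ({nn p} : Set G))) (hx : x ∈ zl (S : Subgroup G) P) :
    q * x * q⁻¹ = x ∨ q * x * q⁻¹ = nn p * x := by
  have hqP : q ∈ P := h.le (T_le (Q_le hG S h t hq))
  have hp : ∀ i, q * p i * q⁻¹ = p i ∨ q * p i * q⁻¹ = nn p * p i := by
    intro i
    rcases Q_act hG S h t hq with h1 | h1
    · left; exact h1 i
    · rw [h1 i]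
      have key : ∀ i : Fin 5, Equiv.swap (0 : Fin 5) 1 i = i ∨ (i = 0 ∧ Equiv.swap (0 : Fin 5) 1 i = 1) ∨
          (i = 1 ∧ Equiv.swap (0 : Fin 5) 1 i = 0) := by decide
      rcases key i with e | ⟨rfl, e⟩ | ⟨rfl, e⟩
      · left; rw [e]
      · right
        rw [e, nn, h.comm 0 1, mul_assoc, h.sq, mul_one]
      · right
        rw [e, nn, mul_assoc, h.sq, mul_one]
  have hcn : ∀ a ∈ closure (Set.range p), a * nn p = nn p * a := by
    intro a ha
    induction ha using closure_induction with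
    | mem x hx =>
      obtain ⟨i, rfl⟩ := hx
      exact (h.pcomm i).symm
    | one => rw [one_mul, mul_one]
    | mul x y _ _ hx hy => rw [mul_assoc, hy, ← mul_assoc, hx, mul_assoc]
    | inv x _ hx =>
      have : Commute x (nn p) := hx
      exact this.inv_left
  have key : ∀ a ∈ closure (Set.range p), q * a * q⁻¹ = a ∨ q * a * q⁻¹ = nn p * a := by
    intro a ha
    induction ha using closure_induction with
    | mem x hx =>
      obtain ⟨i, rfl⟩ := hx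
      exact hp i
    | one => left; group
    | mul x y hx' hy' hx hy =>
      rw [cm]
      rcases hx with e | e <;> rcases hy with e' | e' <;> rw [e, e']
      · left; rfl
      · right
        rw [← mul_assoc, hcn x hx', mul_assoc]
      · right
        rw [mul_assoc]
      · left
        rw [mul_assoc, ← mul_assoc x, hcn x hx', ← mul_assoc, ← mul_assoc, h.nsq, one_mul]
    | inv x hx' hx =>
      have e0 : q * x⁻¹ * q⁻¹ = (q * x * q⁻¹)⁻¹ := by group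
      rcases hx with e | e
      · left; rw [e0, e]
      · right; rw [e0, e, mul_inv_rev, h.ninv, hcn _ (inv_mem hx')]
  obtain ⟨v, hv, a, ha, rfl⟩ := h.zlV x hx
  have hvn : v * nn p = nn p * v := by
    rw [nn, ← mul_assoc, v0_comm h hv 0, mul_assoc, v0_comm h hv 1, mul_assoc]
  rcases key a ha with e | e
  · left
    rw [cm, h.cen v hv q hqP, e]
  · right
    rw [cm, h.cen v hv q hqP, e, ← mul_assoc, hvn, mul_assoc]

theorem V_Q {x : G} (hx : x ∈ zl (S : Subgroup G) P) : x ∈ o2 (centralizer ({nn p} : Set G)) := by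
  have hxn : nn p * x = x * nn p := by
    have h1 := h.n_V
    exact zl_comm h.le S.isPGroup' (not_dvd_relIndex S h.le) (h.par.isLoc.char2 S hG) _ h1 _ hx
  refine le_o2_of_comm hG (by rw [sq]; exact h.nsq) h.n_ne_one hxn.symm fun q hq => ?_
  rcases Q_V hG S h t hq hx with h1 | h1
  · left
    rw [comm_iff] at h1
    calc x * q * x⁻¹ * q⁻¹ = (q * x) * x⁻¹ * q⁻¹ := by rw [h1]
      _ = 1 := by group
  · right
    have h2 : q * x = nn p * x * q := by rw [← h1]; group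
    calc x * q * x⁻¹ * q⁻¹ = nn p * nn p * x * q * x⁻¹ * q⁻¹ := by rw [h.nsq, one_mul]
      _ = nn p * (nn p * x * q) * x⁻¹ * q⁻¹ := by group
      _ = nn p * (q * x) * x⁻¹ * q⁻¹ := by rw [h2]
      _ = nn p := by group

theorem zcQ_D : zc (o2 (centralizer ({nn p} : Set G))) ≤ o2 P := by
  intro x hx
  obtain ⟨h1, h2, -⟩ := mem_zc.1 hx
  refine (h.mem_D hG S).2 ⟨T_le (Q_le hG S h t h1), fun i => ?_⟩
  rw [comm_iff]
  exact (h2 _ (V_Q hG S h t (h.pV i))).symm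

theorem p_zcQ {i : Fin 5} (h0 : i ≠ 0) (h1 : i ≠ 1) : p i ∈ zc (o2 (centralizer ({nn p} : Set G))) := by
  refine mem_zc.2 ⟨V_Q hG S h t (h.pV i), fun q hq => ?_, by rw [pow_two]; exact h.sq i⟩
  rw [← comm_iff]
  rcases Q_act hG S h t hq with h2 | h2
  · exact h2 i
  · rw [h2 i, Equiv.swap_apply_of_ne_of_ne h0 h1]

/-- `zc(O₂(C(x))) ≤ D` for `P`-conjugates `x` of `n` -/
theorem zcQ_D' {g x : G} (hg : g ∈ P) (e : g * nn p * g⁻¹ = x) : zc (o2 (centralizer ({x} : Set G))) ≤ o2 P := by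
  intro u hu
  have h1 := zcQ_D hG S h t (zc_conj' e hu)
  have h2 := (mem_normalizer_iff.1 (le_normalizer_o2 P hg) _).1 h1
  have e2 : g * (g⁻¹ * u * g) * g⁻¹ = u := by group
  rwa [e2] at h2

end useT

end Cfsg.Agent.Omega.F4Leaf.Cen.Q

end

section


/-!
# LeafF4, `m = 2`, `n` 2-central (bb OMEGA #18108 (2)): `v = r a r⁻¹ ∈ V₀` and the output structure `Out`
-/

set_option autoImplicit false
set_option linter.unusedSectionVars false

namespace Cfsg.Agent.Omega.F4Leaf.Cen.V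

open Subgroup Cfsg Cfsg.Agent.MinSimple.VModule Pointwise
open Cfsg.Agent.MinSimple.Basic (not_dvd_relIndex char2_centralizer)
open Cfsg.Agent.ZN (zc zl o2)
open Cfsg.Agent.Omega.S5.Mod (le_o2_of_comm)
open Cfsg.Agent.Omega.NTwo (Fv D8 nn aa cm cc ci conj_inj comm_iff mem_cent o2_cent_conj o2_cent_conj' norm_zc_cent
  mem_zc_of norm_cent)
open Cfsg.Agent.Omega.F4Leaf.Cen.Q

universe u

variable {G : Type u} [Group G]

/-- the element inducing `(0 1)` -/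
structure El (p : Fin 5 → G) (e : G) : Prop where
  e0 : e * p 0 * e⁻¹ = p 1
  en : e * nn p * e⁻¹ = nn p
  eQ : ∀ q ∈ o2 (centralizer ({nn p} : Set G)), e * q * e⁻¹ = q ∨ e * q * e⁻¹ = nn p * q

variable [Finite G] (hG : IsCharacteristicTwoType G) (S : Sylow 2 G) {P V0 : Subgroup G} {p : Fin 5 → G}
  (h : SV (S : Subgroup G) P V0 p)
include hG h

theorem e_mem {e : G} (E : El p e) : e ∈ o2 (centralizer ({nn p} : Set G)) := by
  refine le_o2_of_comm hG (by rw [sq]; exact h.nsq) h.n_ne_one (comm_iff.1 E.en) fun q hq => ?_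
  rcases E.eQ q hq with h1 | h1
  · left; rw [h1]; group
  · right; rw [h1]; group

variable {T₁ : Sylow 2 G} (t : R.TOne (S : Subgroup G) p T₁)
include t

theorem e_ac {e : G} (E : El p e) : Ac p e (Equiv.swap 0 1) := by
  refine (Q_act hG S h t (e_mem hG S h E)).resolve_left fun h1 => ?_
  have h2 := E.e0
  rw [h1 0] at h2
  exact absurd (h.inj h2) (by decide)

/-- conjugates of `e` -/
theorem conj_e {e : G} (E : El p e) {g ρ : G} (hg : g * nn p * g⁻¹ = ρ) :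
    g * e * g⁻¹ ∈ o2 (centralizer ({ρ} : Set G)) ∧ ∀ q ∈ o2 (centralizer ({ρ} : Set G)),
      (g * e * g⁻¹) * q * (g * e * g⁻¹)⁻¹ = q ∨ (g * e * g⁻¹) * q * (g * e * g⁻¹)⁻¹ = ρ * q := by
  refine ⟨o2_cent_conj hg (e_mem hG S h E), fun q hq => ?_⟩
  have e1 : (g * e * g⁻¹) * q * (g * e * g⁻¹)⁻¹ = g * (e * (g⁻¹ * q * g) * e⁻¹) * g⁻¹ := by group
  rcases E.eQ _ (o2_cent_conj' hg hq) with h1 | h1
  · left; rw [e1, h1]; group
  · right; rw [e1, h1, ← hg]; group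

/-- **(2)** `q = r a r⁻¹ ∈ V₀` -/
theorem v_mem {e : G} (E : El p e) {r : G} (hr : r ∈ (T₁ : Subgroup G)) (hrT : r ∉ TT (S : Subgroup G) p) :
    r * aa p * r⁻¹ ∈ V0 := by
  obtain ⟨q, hq⟩ : ∃ q, q = r * aa p * r⁻¹ := ⟨_, rfl⟩
  have hqS : q ∈ zc (S : Subgroup G) := hq ▸ R.q_mem hG S h t hr hrT
  have hqa : q ≠ aa p := hq ▸ R.ra_ne S h t hr hrT
  have hq1 : q ≠ 1 := fun e => h.a_ne_one (conj_inj (g := r) (by rw [← hq, e]; group))
  have hrn : r * nn p * r⁻¹ = nn p := t.cen r hr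
  have hD : ∀ {g : G}, g ∈ P → ∀ {d : G}, d ∈ o2 P → g * d * g⁻¹ ∈ o2 P := fun hg d hd =>
    (mem_normalizer_iff.1 (le_normalizer_o2 P hg) _).1 hd
  have hDp : ∀ {d : G}, d ∈ o2 P → ∀ i, d * p i * d⁻¹ = p i := fun hd => ((h.mem_D hG S).1 hd).2
  have hQT := Q_le hG S h t
  have heQ := e_mem hG S h E
  have hea := e_ac hG S h t E
  rw [← hq]
  -- `m`
  obtain ⟨m, hm⟩ : ∃ m, m = r * p 2 * r⁻¹ := ⟨_, rfl⟩
  have hp2z : p 2 ∈ zc (o2 (centralizer ({nn p} : Set G))) := p_zcQ hG S h t (by decide) (by decide)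
  have hmz : m ∈ zc (o2 (centralizer ({nn p} : Set G))) := hm ▸ norm_zc_cent hrn hp2z
  have hmD : m ∈ o2 P := zcQ_D hG S h t hmz
  have hp3 : p 3 = aa p * p 2 := by rw [aa, h.comm 2 3, mul_assoc, h.sq, mul_one]
  have hm3 : r * p 3 * r⁻¹ = q * m := by rw [hp3, cm, hm, hq]
  have hTm : ∀ τ ∈ TT (S : Subgroup G) p, τ * m * τ⁻¹ = m ∨ τ * m * τ⁻¹ = q * m := by
    intro τ hτ
    have h1 : r⁻¹ * τ * r ∈ TT (S : Subgroup G) p := by
      have := (mem_normalizer_iff.1 (inv_mem (t.nrm hr)) τ).1 hτ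
      rwa [inv_inv] at this
    have e1 : τ * m * τ⁻¹ = r * (r⁻¹ * τ * r * p 2 * (r⁻¹ * τ * r)⁻¹) * r⁻¹ := by rw [hm]; group
    rcases T_perm S h h1 with h2 | h2
    · left; rw [e1, h2, hm]
    · right; rw [e1, h2, hm3]
  -- `w = x e x⁻¹`
  obtain ⟨x, hx, hxp⟩ := h.tau
  have hxA : Ac p x Mod.χ := hxp
  have hxn : x * nn p * x⁻¹ = aa p := by rw [nn, cm, hxp, hxp]; rfl
  have hxa : x * aa p * x⁻¹ = nn p := h.a_eq_conj hx hxn
  obtain ⟨hwQ, hwc⟩ := conj_e hG S h t E hxn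
  have hwA : Ac p (x * e * x⁻¹) (Equiv.swap 2 3) := by
    have h1 := (hxA.mul hea).mul hxA.inv
    have e1 : Mod.χ * Equiv.swap 0 1 * Mod.χ⁻¹ = Equiv.swap 2 3 := by decide +kernel
    rwa [e1] at h1
  obtain ⟨w, hw⟩ : ∃ w, w = x * e * x⁻¹ := ⟨_, rfl⟩
  rw [← hw] at hwQ hwc hwA
  have hwT : w ∈ TT (S : Subgroup G) p := hw ▸ (mem_normalizer_iff.1 (h.le_norm_T hx) _).1 (hQT heQ)
  -- Claim A
  have hA : ∃ d ∈ o2 P, d * m * d⁻¹ = q * m := by
    by_contra hcon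
    push Not at hcon
    have hDm : ∀ d ∈ o2 P, d * m * d⁻¹ = m := fun d hd =>
      (hTm d (h.D_le_T hG S hd)).resolve_right (hcon d hd)
    have hnz : nn p ∈ zc (o2 (centralizer ({aa p} : Set G))) := by
      have haz : aa p ∈ zc (o2 (centralizer ({nn p} : Set G))) :=
        mul_mem hp2z (p_zcQ hG S h t (by decide) (by decide))
      have := zc_conj hxn haz
      rwa [hxa] at this
    have hmQ : m ∈ o2 (centralizer ({aa p} : Set G)) := by
      refine fact hnz hmz ?_ fun u hu => hDm u ?_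
      · rw [aa, cm, hDp hmD, hDp hmD]
      · have h1 := zcQ_D hG S h t (zc_conj' hxn hu)
        have h2 := hD (h.le hx) h1
        have e1 : x * (x⁻¹ * u * x) * x⁻¹ = u := by group
        rwa [e1] at h2
    -- elements of `T` fixing `p 2` centralise `m`
    have hem : e * m * e⁻¹ = m := comm_iff.2 ((mem_zc.1 hmz).2.1 e heQ)
    have hfix : ∀ τ ∈ TT (S : Subgroup G) p, τ * p 2 * τ⁻¹ = p 2 → τ * m * τ⁻¹ = m := by
      intro τ hτ h2
      obtain ⟨σ, hσ⟩ := h.perm τ (h.le (T_le hτ))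
      have hσ' : Ac p τ σ := hσ
      have k2 : σ 2 = 2 := h.inj (by rw [← hσ, h2])
      have k4 : σ 4 = 4 := h.inj (by rw [← hσ, h.fix (T_le hτ)])
      have k3 : σ 3 = 3 := by
        have h3 := h.T_a hτ
        rw [aa, cm, h2, hσ] at h3
        exact h.inj (mul_left_cancel h3)
      rcases dec_swap σ k2 k3 k4 with e1 | e1
      · exact hDm τ ((h.mem_D hG S).2 ⟨T_le hτ, fun i => by rw [hσ, e1]; rfl⟩)
      · have h3 : e⁻¹ * τ ∈ o2 P := by
          refine (h.mem_D hG S).2 ⟨mul_mem (inv_mem (T_le (hQT heQ))) (T_le hτ), fun i => ?_⟩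
          have h4 := hea.inv.mul hσ' i
          rw [h4, e1]
          simp
        calc τ * m * τ⁻¹ = e * ((e⁻¹ * τ) * m * (e⁻¹ * τ)⁻¹) * e⁻¹ := by group
          _ = m := by rw [hDm _ h3, hem]
    -- `w` moves `m`
    have hw2 : w * p 2 * w⁻¹ = p 3 := by rw [hwA 2]; rfl
    have hrwT : r * w * r⁻¹ ∈ TT (S : Subgroup G) p := (mem_normalizer_iff.1 (t.nrm hr) _).1 hwT
    have hrwm : (r * w * r⁻¹) * m * (r * w * r⁻¹)⁻¹ = q * m := by
      calc (r * w * r⁻¹) * m * (r * w * r⁻¹)⁻¹ = r * (w * p 2 * w⁻¹) * r⁻¹ := by rw [hm]; group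
        _ = q * m := by rw [hw2, hm3]
    have hrw2 : (r * w * r⁻¹) * p 2 * (r * w * r⁻¹)⁻¹ = p 3 := by
      refine (T_perm S h hrwT).resolve_left fun h3 => hq1 ?_
      have h4 := hfix _ hrwT h3
      rw [hrwm] at h4
      exact mul_eq_right.1 h4
    have hwm : w * m * w⁻¹ = q * m := by
      have h3 : (w⁻¹ * (r * w * r⁻¹)) * p 2 * (w⁻¹ * (r * w * r⁻¹))⁻¹ = p 2 := by
        calc (w⁻¹ * (r * w * r⁻¹)) * p 2 * (w⁻¹ * (r * w * r⁻¹))⁻¹
            = w⁻¹ * ((r * w * r⁻¹) * p 2 * (r * w * r⁻¹)⁻¹) * w := by group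
          _ = w⁻¹ * (w * p 2 * w⁻¹) * w := by rw [hrw2, hw2]
          _ = p 2 := by group
      have h4 := hfix _ (mul_mem (inv_mem hwT) hrwT) h3
      calc w * m * w⁻¹ = w * ((w⁻¹ * (r * w * r⁻¹)) * m * (w⁻¹ * (r * w * r⁻¹))⁻¹) * w⁻¹ := by rw [h4]
        _ = (r * w * r⁻¹) * m * (r * w * r⁻¹)⁻¹ := by group
        _ = q * m := hrwm
    rcases hwc m hmQ with h3 | h3
    · rw [hwm] at h3
      exact hq1 (mul_eq_right.1 h3)
    · rw [hwm] at h3
      exact hqa (mul_right_cancel h3)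
  obtain ⟨d, hd, hdm⟩ := hA
  -- Claim B
  obtain ⟨g, hg, hgp⟩ := h.full (Equiv.swap 0 2 * (Equiv.swap 1 4 * Equiv.swap 4 3))
  have hgA : Ac p g (Equiv.swap 0 2 * (Equiv.swap 1 4 * Equiv.swap 4 3)) := hgp
  have hgn : g * nn p * g⁻¹ = p 2 * p 4 := by
    rw [nn, cm, hgp, hgp]
    rfl
  obtain ⟨hw'Q, hw'c⟩ := conj_e hG S h t E hgn
  have hw'A : Ac p (g * e * g⁻¹) (Equiv.swap 2 4) := by
    have h1 := (hgA.mul hea).mul hgA.inv
    have e1 : (Equiv.swap 0 2 * (Equiv.swap 1 4 * Equiv.swap 4 3)) * Equiv.swap 0 1 *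
        (Equiv.swap 0 2 * (Equiv.swap 1 4 * Equiv.swap 4 3))⁻¹ = (Equiv.swap 2 4 : Equiv.Perm (Fin 5)) := by
      decide +kernel
    rwa [e1] at h1
  obtain ⟨w', hw'⟩ : ∃ w', w' = g * e * g⁻¹ := ⟨_, rfl⟩
  rw [← hw'] at hw'Q hw'c hw'A
  have hw'P : w' ∈ P := hw' ▸ mul_mem (mul_mem hg (h.le (T_le (hQT heQ)))) (inv_mem hg)
  have hUD := zcQ_D' hG S h t hg hgn
  have hDρ : ∀ {y : G}, y ∈ o2 P → y * (p 2 * p 4) * y⁻¹ = p 2 * p 4 := fun hy => by rw [cm, hDp hy, hDp hy]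
  have hnρ : nn p ∈ zc (o2 (centralizer ({p 2 * p 4} : Set G))) := by
    have h1 := zc_conj hgn (mul_mem hp2z (p_zcQ hG S h t (i := 3) (by decide) (by decide)))
    rw [cm, hgp, hgp] at h1
    exact h1
  have hw'q : w' * q * w'⁻¹ = q := by
    by_cases hcase : ∀ u ∈ zc (o2 (centralizer ({p 2 * p 4} : Set G))), u * m * u⁻¹ = m
    · have hmQ := fact hnρ hmz (hDρ hmD) hcase
      obtain ⟨b, hb⟩ : ∃ b, b = w' * d * w'⁻¹ := ⟨_, rfl⟩
      have hbD : b ∈ o2 P := hb ▸ hD hw'P hd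
      have h1 : b * (w' * m * w'⁻¹) * b⁻¹ = (w' * q * w'⁻¹) * (w' * m * w'⁻¹) := by
        calc b * (w' * m * w'⁻¹) * b⁻¹ = w' * (d * m * d⁻¹) * w'⁻¹ := by rw [hb]; group
          _ = (w' * q * w'⁻¹) * (w' * m * w'⁻¹) := by rw [hdm, cm]
      have h2 : b * m * b⁻¹ = (w' * q * w'⁻¹) * m := by
        rcases hw'c m hmQ with h3 | h3
        · rwa [h3] at h1
        · rw [h3, cm, hDρ hbD] at h1
          -- `ρ * (b m b⁻¹) = (w' q w'⁻¹) * (ρ * m)`
          have h4 : (w' * q * w'⁻¹) * (p 2 * p 4) = (p 2 * p 4) * (w' * q * w'⁻¹) := by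
            have h5 : q * (p 2 * p 4) = (p 2 * p 4) * q := by
              rw [← (mem_zc.1 hqS).2.1 _ (mul_mem (h.pS 2) (h.pS 4))]
            have h6 : w' * (p 2 * p 4) * w'⁻¹ = p 2 * p 4 := by
              rw [cm, hw'A, hw'A]
              exact h.comm _ _
            calc (w' * q * w'⁻¹) * (p 2 * p 4) = w' * q * w'⁻¹ * (w' * (p 2 * p 4) * w'⁻¹) := by rw [h6]
              _ = w' * (q * (p 2 * p 4)) * w'⁻¹ := by group
              _ = w' * (p 2 * p 4) * w'⁻¹ * (w' * q * w'⁻¹) := by rw [h5]; group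
              _ = _ := by rw [h6]
          exact mul_left_cancel (h1.trans (by rw [← mul_assoc, h4, mul_assoc]))
      rcases hTm b (h.D_le_T hG S hbD) with h3 | h3
      · exfalso
        rw [h3] at h2
        have h4 : w' * q * w'⁻¹ = 1 := mul_eq_right.1 h2.symm
        exact hq1 (conj_inj (g := w') (by rw [h4]; group))
      · rw [h3] at h2
        exact (mul_right_cancel h2).symm
    · push Not at hcase
      obtain ⟨u, hu, hum⟩ := hcase
      have h1 := (hTm u (h.D_le_T hG S (hUD hu))).resolve_left hum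
      have h2 : q ∈ zc (o2 (centralizer ({p 2 * p 4} : Set G))) := by
        have h3 := mul_mem hu (norm_zc_cent (hDρ hmD) (inv_mem hu))
        have e1 : u * (m * u⁻¹ * m⁻¹) = q := by
          calc u * (m * u⁻¹ * m⁻¹) = u * m * u⁻¹ * m⁻¹ := by group
            _ = q := by rw [h1]; group
        rwa [e1] at h3
      exact comm_iff.2 ((mem_zc.1 h2).2.1 w' hw'Q)
  -- the end
  refine (h.zc4 q hqS).resolve_right fun h5 => ?_
  obtain ⟨v, hv⟩ : ∃ v, v = q * p 4 := ⟨_, rfl⟩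
  rw [← hv] at h5
  have hqv : q = v * p 4 := by rw [hv, mul_assoc, h.sq, mul_one]
  rw [hqv, cm, h.cen v h5 w' hw'P, hw'A 4, Equiv.swap_apply_right] at hw'q
  exact absurd (h.inj (mul_left_cancel hw'q)) (by decide)

omit t in
/-- **The output of (0)-(2).** -/
theorem exists_out (hN : NCen p) {e : G} (E : El p e) : ∃ r v w, Out S P V0 p r v e w := by
  obtain ⟨T₁, t⟩ := R.exists_tOne S h hN
  obtain ⟨r, hr, hrT⟩ := t.ex
  obtain ⟨g, hg, hgp⟩ := h.full (Equiv.swap 0 2 * (Equiv.swap 1 4 * Equiv.swap 4 3))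
  have hgA : Ac p g (Equiv.swap 0 2 * (Equiv.swap 1 4 * Equiv.swap 4 3)) := hgp
  have hgn : g * nn p * g⁻¹ = p 2 * p 4 := by
    rw [nn, cm, hgp, hgp]
    rfl
  have hea := e_ac hG S h t E
  obtain ⟨hw'Q, hw'c⟩ := conj_e hG S h t E hgn
  have hw'A : Ac p (g * e * g⁻¹) (Equiv.swap 2 4) := by
    have h1 := (hgA.mul hea).mul hgA.inv
    have e1 : (Equiv.swap 0 2 * (Equiv.swap 1 4 * Equiv.swap 4 3)) * Equiv.swap 0 1 *
        (Equiv.swap 0 2 * (Equiv.swap 1 4 * Equiv.swap 4 3))⁻¹ = (Equiv.swap 2 4 : Equiv.Perm (Fin 5)) := by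
      decide +kernel
    rwa [e1] at h1
  have hp2z := p_zcQ hG S h t (i := 2) (by decide) (by decide)
  have hnρ : nn p ∈ zc (o2 (centralizer ({p 2 * p 4} : Set G))) := by
    have h1 := zc_conj hgn (mul_mem hp2z (p_zcQ hG S h t (i := 3) (by decide) (by decide)))
    rw [cm, hgp, hgp] at h1
    exact h1
  refine ⟨r, r * aa p * r⁻¹, g * e * g⁻¹, { h with
    char2 := hG
    r_T := t.nrm hr
    r_sq := R.rr_mem S h t hr hrT
    r_n := t.cen r hr
    r_a := rfl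
    r_v := R.rr_a S h t hr hrT
    v_mem := v_mem hG S h t E hr hrT
    Q_T := Q_le hG S h t
    V_Q := fun x hx => V_Q hG S h t hx
    Q_V := fun q hq x hx => Q_V hG S h t hq hx
    zcQ_D := zcQ_D hG S h t
    e_mem := e_mem hG S h E
    e_p := hea
    w_mem := hw'Q
    w_p := hw'A
    w_Q := hw'c
    zcQ'_D := zcQ_D' hG S h t hg hgn
    fact := fun y hy hc => fact hnρ hy ?_ fun u hu => comm_iff.2 (hc u hu).symm }⟩
  have h1 := ((h.mem_D hG S).1 (zcQ_D hG S h t hy)).2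
  rw [cm, h1, h1]

end Cfsg.Agent.Omega.F4Leaf.Cen.V

end

section


/-!
# LeafF4, `m = 2`, `n` 2-central (bb OMEGA #18108): the interface to the labelled positions

`NatSide` : natural partner; `TTSide` : both members of type `S₅`.
-/

set_option autoImplicit false

namespace Cfsg.Agent.Omega.F4Leaf.Cen

open Subgroup Cfsg
open Cfsg.Agent.ZN (zc zl o2)
open Cfsg.Agent.ZN.ChoiceBase (cj)
open Cfsg.Agent.Omega.FrameFF (cv)
open Cfsg.Agent.Omega.NTwo (nn aa)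
open Cfsg.Agent.Omega.F4Leaf.Cen.V (El)

universe u

variable {G : Type u} [Group G]

/-- The position with a natural partner `W = (V_{P₂})^y`. -/
structure NatSide (S P P₂ : Subgroup G) (y : G) (p : Fin 5 → G) (e : G) : Prop where
  sv : SV S P (cv S P) p
  ncen : NCen p
  el : El p e
  e_mem : e ∈ cj y (zl S P₂)
  n_mem : nn p ∈ cj y (zl S P₂)
  W_Q : cj y (zl S P₂) ≤ o2 (centralizer ({nn p} : Set G))
  Q_W : ∀ q ∈ o2 (centralizer ({nn p} : Set G)), ∀ w ∈ cj y (zl S P₂), q * w * q⁻¹ = w ∨ q * w * q⁻¹ = nn p * w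

/-- The position with two members of type `S₅`. -/
structure TTSide (S P P₂ : Subgroup G) (y : G) (p : Fin 5 → G) (e : G) (p₂ : Fin 5 → G) (e₂ : G) : Prop where
  sv : SV S P (cv S P) p
  ncen : NCen p
  el : El p e
  e_mem : e ∈ cj y (zl S P₂)
  sv₂ : SV S P₂ (cv S P₂) p₂
  ncen₂ : NCen p₂
  el₂ : El p₂ e₂
  e₂_mem : y * e₂ * y⁻¹ ∈ zl S P
  nn₂ : y * nn p₂ * y⁻¹ = nn p
  ne : e * (y * e₂ * y⁻¹) ≠ (y * e₂ * y⁻¹) * e

end Cfsg.Agent.Omega.F4Leaf.Cen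

end

section


/-!
# LeafF4, `m = 2`, `n` 2-central: the standard position `SV` from `Split`
-/

set_option autoImplicit false
set_option linter.unusedSectionVars false

namespace Cfsg.Agent.Omega.F4Leaf.Cen.Std

open Subgroup Cfsg Cfsg.Agent.MinSimple.VModule Pointwise
open Cfsg.Agent.MinSimple.Basic (not_dvd_relIndex char2_centralizer)
open Cfsg.Agent.ZN (zc zl o2)
open Cfsg.Agent.Omega.MinPar (IsPar IsParS IsLoc)
open Cfsg.Agent.Omega.FrameFF (cv)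
open Cfsg.Agent.Omega.S5.Def Cfsg.Agent.Omega.S5.Syl
open Cfsg.Agent.Omega.F4Leaf.Def
open Cfsg.Agent.Omega.NTwo (Fv D8 D8_fix D8_one exists_D8 nn aa cm cc ci conj_inj comm_iff mem_cent mem_smul)

universe u

variable {G : Type u} [Group G]

/-- `S` acts as the dihedral group after relabelling -/
theorem exists_d8 [Finite G] (S : Sylow 2 G) {P : Subgroup G} {p : Fin 5 → G} (h : Fv P p)
    (hSP : (S : Subgroup G) ≤ P) :
    ∃ ρ : Equiv.Perm (Fin 5), (∀ x ∈ (S : Subgroup G), ∃ d ∈ D8, ∀ i, x * p (ρ i) * x⁻¹ = p (ρ (d i))) ∧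
      ∀ d ∈ D8, ∃ x ∈ (S : Subgroup G), ∀ i, x * p (ρ i) * x⁻¹ = p (ρ (d i)) := by
  have hp : Fact (Nat.Prime 2) := ⟨Nat.prime_two⟩
  obtain ⟨φ, hφs, hφ⟩ := h.exists_hom
  obtain ⟨D, hD⟩ := exists_D8
  obtain ⟨ρ, hρ⟩ := MulAction.exists_smul_eq (Equiv.Perm (Fin 5)) D ((S.subtype hSP).mapSurjective hφs)
  have h1 : ∀ σ, σ ∈ ((S : Subgroup G).subgroupOf P).map φ ↔ ρ⁻¹ * σ * ρ ∈ D8 := by
    intro σ
    have h2 : (((S.subtype hSP).mapSurjective hφs : Sylow 2 (Equiv.Perm (Fin 5))) : Subgroup _) =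
        ((S : Subgroup G).subgroupOf P).map φ := by
      rw [Sylow.coe_mapSurjective]; rfl
    rw [← h2, ← hρ, ← hD]
    exact mem_smul
  refine ⟨ρ, ?_, ?_⟩
  · intro x hx
    have h2 : φ ⟨x, hSP hx⟩ ∈ ((S : Subgroup G).subgroupOf P).map φ := ⟨_, mem_subgroupOf.2 hx, rfl⟩
    refine ⟨_, (h1 _).1 h2, fun i => ?_⟩
    have h3 := hφ ⟨x, hSP hx⟩ (ρ i)
    change x * p (ρ i) * x⁻¹ = _ at h3
    rw [h3, Equiv.Perm.mul_apply, Equiv.Perm.mul_apply]
    rw [show ρ (ρ⁻¹ _) = _ from ρ.apply_symm_apply _]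
  · intro d hd
    have h2 : ρ * d * ρ⁻¹ ∈ ((S : Subgroup G).subgroupOf P).map φ := by
      rw [h1]
      have e : ρ⁻¹ * (ρ * d * ρ⁻¹) * ρ = d := by group
      rwa [e]
    obtain ⟨x, hx, h3⟩ := h2
    refine ⟨x, mem_subgroupOf.1 hx, fun i => ?_⟩
    have h4 := hφ x (ρ i)
    rw [h4, h3, Equiv.Perm.mul_apply, Equiv.Perm.mul_apply]
    rw [show ρ⁻¹ (ρ i) = i from ρ.symm_apply_apply _]

theorem dec_block : ∀ i j : Fin 5, i ≠ j → Equiv.swap i j ∈ D8 → ∃ δ ∈ D8, δ 0 = i ∧ δ 1 = j := by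
  decide +kernel

variable [Finite G] (hG : IsCharacteristicTwoType G) (S : Sylow 2 G) {P A : Subgroup G}
  {ε : (Fin (2 ^ 2 + 1) → ZMod 2) → G} (hs : Split (S : Subgroup G) P 2 A ε) (hP : IsParS (S : Subgroup G) P)
include hG hs hP

theorem V_le_S : zl (S : Subgroup G) P ≤ (S : Subgroup G) :=
  ((hP.isLoc.zl_le S hG).trans (zc_le _)).trans (hP.isLoc.o2_le S)

/-- 871's structure with `Y = Ω₁Z(O₂(P))` -/
theorem big : App.Big (S : Subgroup G) P (cv (S : Subgroup G) P) A (zc (o2 P)) ε where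
  ev := hs.even
  fix0 := hs.fix0
  le := hP.le
  comm y hy y' hy' := (mem_zc.1 hy').2.1 _ (zc_le _ hy)
  sq y hy := by
    have := (mem_zc.1 hy).2.2
    rwa [pow_two] at this
  ge := hs.A_le.trans (hP.isLoc.zl_le S hG)
  nrm g hg y hy := (mem_normalizer_iff.1 (normalizer_le_normalizer_zc _ (le_normalizer_o2 P hg)) y).1 hy
  syl s hsS hsA := by
    have h1 : s ∈ o2 P := by
      rw [← hP.inf_centralizer S hG, mem_inf, mem_centralizer_iff]
      refine ⟨hsS, fun y hy => ?_⟩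
      obtain ⟨v, hv, a, ha, rfl⟩ := hs.mul_eq hG hP hy
      have h2 : s * v = v * s := hs.comm (hP.le hsS) hv
      have h3 : a * s = s * a := mem_centralizer_iff.1 hsA a ha
      rw [mul_assoc, h3, ← mul_assoc, ← h2, mul_assoc]
    rw [mem_centralizer_iff]
    intro y hy
    exact ((mem_zc.1 hy).2.1 s h1).symm
  cz v hv g hg := hs.comm hg hv
  fixed y hy hyS := by
    have h1 : y ∈ zc (S : Subgroup G) :=
      mem_zc.2 ⟨hP.isLoc.o2_le S (zc_le _ hy), hyS, (mem_zc.1 hy).2.2⟩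
    rcases hs.zc_mul hG hP (by norm_num) h1 with h2 | h2
    · exact ⟨y, h2, Or.inl rfl⟩
    · refine ⟨_, h2, Or.inr ?_⟩
      rw [mul_assoc, hs.even.sq, mul_one]

/-- **The standard position.** -/
theorem exists_sv {i j : Fin 5} (hij : i ≠ j) {b : G} (hb : b ∈ (S : Subgroup G))
    (hbs : Acts ε b (Equiv.swap (α := Fin (2 ^ 2 + 1)) i j)) :
    ∃ ρ : Equiv.Perm (Fin 5), ρ 0 = i ∧ ρ 1 = j ∧
      SV (S : Subgroup G) P (cv (S : Subgroup G) P) (fun k => ε (Pi.single (M := fun _ : Fin (2 ^ 2 + 1) => ZMod 2) (ρ k) 1)) := by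
  obtain ⟨p, hp⟩ : ∃ p : Fin 5 → G, p = fun k => ε (Pi.single (M := fun _ : Fin (2 ^ 2 + 1) => ZMod 2) k 1) := ⟨_, rfl⟩
  have hpk : ∀ k, ε (Pi.single (M := fun _ : Fin (2 ^ 2 + 1) => ZMod 2) k 1) = p k := fun k => by rw [hp]
  obtain ⟨hF, hA⟩ := NTwo.Zero.fv_of_even (show EvenSet 5 A P ε from hs.even)
  have hF : Fv P p := by rw [hp]; exact hF
  have hA : A = closure (Set.range p) := by rw [hp]; exact hA
  have hac : ∀ {g : G} {σ : Equiv.Perm (Fin 5)}, Acts (n := 2 ^ 2 + 1) ε g σ → ∀ k, g * p k * g⁻¹ = p (σ k) := by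
    intro g σ hg k
    rw [hp]
    exact hg.single k
  obtain ⟨ρ, h1, h2⟩ := exists_d8 S hF hP.le
  obtain ⟨d, hd, hdb⟩ := h1 b hb
  have hde : d = Equiv.swap (ρ⁻¹ i) (ρ⁻¹ j) := by
    rw [Equiv.swap_apply_apply, inv_inv]
    refine Equiv.ext fun k => ?_
    have h3 := hdb k
    rw [hac hbs] at h3
    have h4 := hF.inj h3
    rw [Equiv.Perm.mul_apply, Equiv.Perm.mul_apply, h4]
    exact (ρ.symm_apply_apply _).symm
  obtain ⟨δ, hδ, e0, e1⟩ := dec_block _ _ (fun e => hij (ρ⁻¹.injective e)) (hde ▸ hd)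
  obtain ⟨π, hπ⟩ : ∃ π, π = ρ * δ := ⟨_, rfl⟩
  have hπk : ∀ k, π k = ρ (δ k) := fun k => by rw [hπ]; rfl
  have hact : ∀ x ∈ (S : Subgroup G), ∃ d ∈ D8, ∀ i, x * p (π i) * x⁻¹ = p (π (d i)) := by
    intro x hx
    obtain ⟨d, hd, h3⟩ := h1 x hx
    refine ⟨δ⁻¹ * d * δ, mul_mem (mul_mem (inv_mem hδ) hd) hδ, fun i => ?_⟩
    rw [hπk, h3, hπk, Equiv.Perm.mul_apply, Equiv.Perm.mul_apply]
    rw [show δ (δ⁻¹ (d (δ i))) = d (δ i) from δ.apply_symm_apply _]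
  have hact8 : ∀ d ∈ D8, ∃ x ∈ (S : Subgroup G), ∀ i, x * p (π i) * x⁻¹ = p (π (d i)) := by
    intro d hd
    obtain ⟨x, hx, h3⟩ := h2 (δ * d * δ⁻¹) (mul_mem (mul_mem hδ hd) (inv_mem hδ))
    refine ⟨x, hx, fun i => ?_⟩
    rw [hπk, h3, hπk, Equiv.Perm.mul_apply, Equiv.Perm.mul_apply]
    rw [show δ⁻¹ (δ i) = i from δ.symm_apply_apply _]
  have h4 : π 4 = 0 := by
    by_contra hne
    obtain ⟨k, hk⟩ : ∃ k, π k = 0 := ⟨π.symm 0, π.apply_symm_apply 0⟩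
    have hk4 : k ≠ 4 := fun e => hne (by rw [← e, hk])
    obtain ⟨d, hd, h5⟩ := D8_one k hk4
    obtain ⟨x, hx, h6⟩ := hact8 d hd
    obtain ⟨τ, hτ⟩ := hs.even.perm x (hP.le hx)
    have h7 := hs.fix0 x hx τ hτ
    have h8 := hac hτ 0
    rw [show τ 0 = 0 from h7, ← hk, h6] at h8
    exact h5 (π.injective (hF.inj h8))
  refine ⟨π, by rw [hπk, e0]; exact ρ.apply_symm_apply _, by rw [hπk, e1]; exact ρ.apply_symm_apply _, ?_⟩
  have hpp : (fun k => ε (Pi.single (M := fun _ : Fin (2 ^ 2 + 1) => ZMod 2) (π k) 1)) = p ∘ π := by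
    funext k
    exact hpk (π k)
  rw [hpp]
  have hpV : ∀ k, p k ∈ zl (S : Subgroup G) P := fun k => hs.A_le (hA ▸ subset_closure ⟨k, rfl⟩)
  have hS2 := not_dvd_relIndex S hP.le
  refine
    { toFv := hF.relabel π
      par := hP
      act := hact
      act8 := hact8
      v0 := hs.cv_le_zc hG hP
      cen := ?_
      zc4 := ?_
      zlV := ?_
      pV := fun i => hpV _
      pS := fun i => V_le_S hG S hs hP (hpV _)
      same := ?_ }
  · intro v hv g hg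
    exact comm_iff.2 (hs.comm hg hv)
  · intro x hx
    have h5 := hs.zc_mul hG hP (by norm_num) hx
    rw [Function.comp_apply, h4]
    rwa [hpk] at h5
  · intro x hx
    obtain ⟨v, hv, a, ha, rfl⟩ := hs.mul_eq hG hP hx
    refine ⟨v, hv, a, ?_, rfl⟩
    rw [π.surjective.range_comp, ← hA]
    exact ha
  · intro g hg k hk hgk y hy
    obtain ⟨σ, hσ⟩ := hs.even.perm g hg
    obtain ⟨τ, hτ⟩ := hs.even.perm k hk
    have h5 : σ = τ := by
      refine Equiv.ext fun l => ?_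
      obtain ⟨i, hi⟩ : ∃ i, π i = l := ⟨π.symm l, π.apply_symm_apply l⟩
      have h6 := hgk i
      rw [Function.comp_apply, hi, hac hσ, hac hτ] at h6
      exact hF.inj h6
    subst h5
    exact (big hG S hs hP).act_eq hS2 S.isPGroup' hg hk hσ hτ hy

end Cfsg.Agent.Omega.F4Leaf.Cen.Std

end

section


/-!
# LeafF4, `m = 2`, `n` 2-central: `TTSide` from `LabTwoZ`, `NatSide` from `LabZ`
-/

set_option autoImplicit false
set_option linter.unusedSectionVars false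

namespace Cfsg.Agent.Omega.F4Leaf.Cen.Entry

open Subgroup Cfsg Cfsg.Agent.MinSimple.VModule Pointwise
open Cfsg.Agent.MinSimple.Basic (not_dvd_relIndex char2_centralizer)
open Cfsg.Agent.ZN (zc zl o2)
open Cfsg.Agent.ZN.ChoiceBase (cj mem_cj)
open Cfsg.Agent.Omega.MinPar (IsPar IsParS IsLoc)
open Cfsg.Agent.Omega.FrameFF (cv)
open Cfsg.Agent.Omega.S5.Def Cfsg.Agent.Omega.S5.Syl Cfsg.Agent.Omega.S5.Pair Cfsg.Agent.Omega.S5.Main
open Cfsg.Agent.Omega.F4Leaf.Def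
open Cfsg.Agent.Omega.S5.Mod (le_o2_of_comm)
open Cfsg.Agent.Omega.NTwo (Fv D8 D8_fix D8_one exists_D8 nn aa cm cc ci conj_inj comm_iff mem_cent mem_smul
  o2_cent_conj o2_cent_conj')
open Cfsg.Agent.Omega.F4Leaf.Cen.V (El)
open scoped commutatorElement

universe u

variable {G : Type u} [Group G] [Finite G] (hG : IsCharacteristicTwoType G) {S : Sylow 2 G}

/-- the partner does not centralise `A` -/
theorem not_le_cent {P₁ P₂ : Subgroup G} {y : G} {m : ℕ} {A : Subgroup G} {ε : (Fin (2 ^ m + 1) → ZMod 2) → G}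
    (hG : IsCharacteristicTwoType G) (hl : LabZ S P₁ P₂ y m A ε) :
    ¬ cj y (zl (S : Subgroup G) P₂) ≤ centralizer (A : Set G) := by
  intro h0
  apply hl.off₁.ne
  intro w hw
  refine mem_centralizer_iff.2 fun v hv => ?_
  obtain ⟨d, hd, a, ha, rfl⟩ := hl.split.mul_eq hG hl.pair.star₁ hv
  have h1 : w * d = d * w := hl.split.comm (hl.pair.star₁.le (hl.le hw)) hd
  have h2 : a * w = w * a := mem_centralizer_iff.1 (h0 hw) a ha
  rw [mul_assoc, h2, ← mul_assoc, ← h1, mul_assoc]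

/-- elements acting as a transposition in a smaller group -/
theorem acts_part {n : ℕ} {V L : Subgroup G} {ε : (Fin n → ZMod 2) → G} (h : EvenSet n V L ε) {c c0 c1 : G}
    {σ : Equiv.Perm (Fin n)} (hc : Acts ε c σ) (e : c = c0 * c1) (h0 : ∀ v ∈ V, c0 * v = v * c0) : Acts ε c1 σ := by
  have h1 : Acts ε c0 1 := h.acts_one_iff.2 (mem_centralizer_iff.2 fun v hv => (h0 v hv).symm)
  have h2 := h1.inv.mul hc
  have e1 : c0⁻¹ * c = c1 := by rw [e]; group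
  rwa [e1, inv_one, one_mul] at h2

/-- `n = [p i, b]` -/
theorem comm_eq {n : ℕ} {V L : Subgroup G} {ε : (Fin n → ZMod 2) → G} (h : EvenSet n V L ε) {b : G} {i j : Fin n}
    (hb : Acts ε b (Equiv.swap i j)) :
    ⁅ε (Pi.single i 1), b⁆ = ε (Pi.single i 1) * ε (Pi.single j 1) := by
  have h1 := hb.single i
  rw [Equiv.swap_apply_left] at h1
  rw [commutatorElement_def, h.inv]
  have e : ε (Pi.single i 1) * b * ε (Pi.single i 1) * b⁻¹ = ε (Pi.single i 1) * (b * ε (Pi.single i 1) * b⁻¹) := by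
    group
  rw [e, h1]

include hG

/-- `El` from the action of `O₂(C(n))` on the element -/
theorem el_of {P V0 : Subgroup G} {p : Fin 5 → G} (h : SV (S : Subgroup G) P V0 p) {b : G}
    (h0 : b * p 0 * b⁻¹ = p 1) (h1 : b * p 1 * b⁻¹ = p 0)
    (hQ : ∀ q ∈ o2 (centralizer ({nn p} : Set G)), q * b * q⁻¹ = b ∨ q * b * q⁻¹ = nn p * b) : El p b := by
  refine ⟨h0, ?_, fun q hq => ?_⟩
  · rw [nn, cm, h0, h1]
    exact h.comm _ _
  · have hqn : nn p * q = q * nn p := by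
      have := mem_cent.1 (o2_le _ hq)
      rw [comm_iff] at this
      exact this.symm
    rcases hQ q hq with h2 | h2
    · left
      rw [comm_iff] at h2 ⊢
      exact h2.symm
    · right
      have h3 : q * b = nn p * b * q := by rw [← h2]; group
      have h4 : b * q = nn p * (q * b) := by
        rw [h3, ← mul_assoc, ← mul_assoc, h.nsq, one_mul]
      rw [h4]
      group

/-- **Two members of type `S₅`.** -/
theorem tt_side {P₁ P₂ : Subgroup G} {y : G} {A : Subgroup G} {ε : (Fin (2 ^ 2 + 1) → ZMod 2) → G}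
    {A₂ : Subgroup G} {ε₂ : (Fin (2 ^ 2 + 1) → ZMod 2) → G} (hl : LabTwoZ S P₁ P₂ y 2 2 A ε A₂ ε₂)
    (hC : Cen (zl (S : Subgroup G) P₁) (cj y (zl (S : Subgroup G) P₂))) :
    ∃ p e p₂ e₂, TTSide (S : Subgroup G) P₁ P₂ y p e p₂ e₂ := by
  have hn : 3 ≤ 2 ^ 2 + 1 := by norm_num
  have hev := hl.split.even
  have hev₂ := hl.split₂.even
  have hP₁ := hl.pair.star₁
  have hP₂ := hl.pair.star₂
  have hVS := Std.V_le_S hG S hl.split hP₁
  obtain ⟨b, hb, i, j, hij, hbs⟩ := S5.Nat.exists_swap hev hl.side (not_le_cent hG hl.toLabZ)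
  obtain ⟨ε', hε'⟩ : ∃ ε' : (Fin (2 ^ 2 + 1) → ZMod 2) → G, ε' = fun x => y * ε₂ x * y⁻¹ := ⟨_, rfl⟩
  have hev' : EvenSet (2 ^ 2 + 1) (cj y A₂) (cj y P₂) ε' := hε' ▸ hev₂.conj y
  -- `b = b₀ b'`
  obtain ⟨d, hd, a, ha, hda⟩ := hl.split₂.mul_eq hG hP₂ (mem_cj.1 hb)
  obtain ⟨b', hb'⟩ : ∃ b', b' = y * a * y⁻¹ := ⟨_, rfl⟩
  have hb'A : b' ∈ cj y A₂ := by
    rw [mem_cj, hb']
    have e : y⁻¹ * (y * a * y⁻¹) * y = a := by group
    rwa [e]
  have hb'W : b' ∈ cj y (zl (S : Subgroup G) P₂) := by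
    rw [mem_cj] at hb'A ⊢
    exact hl.split₂.A_le hb'A
  have hgeP : ∀ v ∈ zl (S : Subgroup G) P₁, y⁻¹ * v * y ∈ P₂ := fun v hv => hP₂.le (mem_cj.1 (hl.ge hv))
  have hb's : Acts ε b' (Equiv.swap i j) := by
    refine acts_part hev hbs (c0 := y * d * y⁻¹) ?_ fun v hv => ?_
    · rw [hb']
      calc b = y * (y⁻¹ * b * y) * y⁻¹ := by group
        _ = y * d * y⁻¹ * (y * a * y⁻¹) := by rw [hda]; group
    · have h1 : (y⁻¹ * v * y) * d = d * (y⁻¹ * v * y) := hl.split₂.comm (hgeP v (hl.split.A_le hv)) hd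
      calc y * d * y⁻¹ * v = y * (d * (y⁻¹ * v * y)) * y⁻¹ := by group
        _ = y * ((y⁻¹ * v * y) * d) * y⁻¹ := by rw [h1]
        _ = v * (y * d * y⁻¹) := by group
  -- `Side A ε'`
  have hsA : Side A ε' := by
    intro v hv
    obtain ⟨τ, hτ, h2⟩ := hl.side₂ v (hl.split.A_le hv)
    rw [← hε'] at hτ h2
    refine ⟨τ, hτ, fun k hk => ⟨(h2 k hk).1, ?_⟩⟩
    obtain ⟨c, hc, hcs⟩ := (h2 k hk).2
    obtain ⟨c0, hc0, c1, hc1, hcc⟩ := hl.split.mul_eq hG hP₁ hc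
    refine ⟨c1, hc1, acts_part hev' hcs hcc fun w hw => ?_⟩
    have hwP : w ∈ P₁ := by
      refine hP₁.le (hl.le ?_)
      rw [mem_cj] at hw ⊢
      exact hl.split₂.A_le hw
    exact (hl.split.comm hwP hc0).symm
  obtain ⟨k, l, hkl, hnn, c, hcA, hcs, hbc⟩ := match_swap hev hev' hn hn hsA hb'A hij hb's
  have hcV : c ∈ zl (S : Subgroup G) P₁ := hl.split.A_le hcA
  -- positions
  obtain ⟨ρ, hρ0, hρ1, sv⟩ := Std.exists_sv hG S hl.split hP₁ hij (hl.le hb'W) hb's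
  have hc₂S : y⁻¹ * c * y ∈ (S : Subgroup G) := mem_cj.1 (hl.ge hcV)
  have hc₂s : Acts ε₂ (y⁻¹ * c * y) (Equiv.swap k l) := by
    rw [← acts_conj_label_iff y, ← hε']
    have e : y * (y⁻¹ * c * y) * y⁻¹ = c := by group
    rwa [e]
  obtain ⟨ρ₂, hρ₂0, hρ₂1, sv₂⟩ := Std.exists_sv hG S hl.split₂ hP₂ hkl hc₂S hc₂s
  obtain ⟨p, hp⟩ : ∃ p : Fin 5 → G, p = fun k => ε (Pi.single (M := fun _ : Fin (2 ^ 2 + 1) => ZMod 2) (ρ k) 1) :=
    ⟨_, rfl⟩
  obtain ⟨p₂, hp₂⟩ : ∃ p₂ : Fin 5 → G, p₂ = fun k => ε₂ (Pi.single (M := fun _ : Fin (2 ^ 2 + 1) => ZMod 2) (ρ₂ k) 1) :=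
    ⟨_, rfl⟩
  rw [← hp] at sv
  rw [← hp₂] at sv₂
  have hp0 : p 0 = ε (Pi.single i 1) := by rw [hp, ← hρ0]
  have hp1 : p 1 = ε (Pi.single j 1) := by rw [hp, ← hρ1]
  have hq0 : p₂ 0 = ε₂ (Pi.single k 1) := by rw [hp₂, ← hρ₂0]
  have hq1 : p₂ 1 = ε₂ (Pi.single l 1) := by rw [hp₂, ← hρ₂1]
  have hnp : nn p = ε (Pi.single i 1) * ε (Pi.single j 1) := by rw [nn, hp0, hp1]
  have hnn₂ : y * nn p₂ * y⁻¹ = nn p := by
    rw [hnp, ← hev.add, hnn, hev'.add, hε', nn, hq0, hq1]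
    group
  -- 2-central
  obtain ⟨T₀, hT₀⟩ := hC
  have hnc : nn p ∈ (⁅zl (S : Subgroup G) P₁, cj y (zl (S : Subgroup G) P₂)⁆ : Subgroup G) := by
    rw [hnp, ← comm_eq hev hb's]
    exact commutator_mem_commutator (hl.split.A_le (hev.mem _)) hb'W
  have hN : NCen p := by
    refine ⟨T₀, fun x hx => ?_⟩
    rw [mem_cent, comm_iff]
    exact (mem_centralizer_iff.1 (hT₀ hx) _ hnc).symm
  have hN₂ : NCen p₂ := by
    obtain ⟨T, hT⟩ := hN
    refine ⟨y⁻¹ • T, fun x hx => ?_⟩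
    rw [mem_smul, inv_inv] at hx
    have h1 := mem_cent.1 (hT hx)
    rw [mem_cent]
    rw [← hnn₂] at h1
    calc x * nn p₂ * x⁻¹ = y⁻¹ * (y * x * y⁻¹ * (y * nn p₂ * y⁻¹) * (y * x * y⁻¹)⁻¹) * y := by group
      _ = nn p₂ := by rw [h1]; group
  obtain ⟨T₁, t₁⟩ := R.exists_tOne S sv hN
  obtain ⟨T₂, t₂⟩ := R.exists_tOne S sv₂ hN₂
  -- the elements
  have e0 := hb's.single i
  have e1 := hb's.single j
  rw [Equiv.swap_apply_left, ← hp0, ← hp1] at e0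
  rw [Equiv.swap_apply_right, ← hp0, ← hp1] at e1
  have f0 := hc₂s.single k
  have f1 := hc₂s.single l
  rw [Equiv.swap_apply_left, ← hq0, ← hq1] at f0
  rw [Equiv.swap_apply_right, ← hq0, ← hq1] at f1
  have hyc : y * (y⁻¹ * c * y) * y⁻¹ = c := by group
  refine ⟨p, b', p₂, y⁻¹ * c * y, sv, hN, ?_, hb'W, sv₂, hN₂, ?_, by rwa [hyc], hnn₂, by rwa [hyc]⟩
  · refine el_of hG sv e0 e1 fun q hq => ?_
    rcases Q.Q_V hG S sv₂ t₂ (o2_cent_conj' hnn₂ hq) (mem_cj.1 hb'W) with h1 | h1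
    · left
      calc q * b' * q⁻¹ = y * (y⁻¹ * q * y * (y⁻¹ * b' * y) * (y⁻¹ * q * y)⁻¹) * y⁻¹ := by group
        _ = b' := by rw [h1]; group
    · right
      calc q * b' * q⁻¹ = y * (y⁻¹ * q * y * (y⁻¹ * b' * y) * (y⁻¹ * q * y)⁻¹) * y⁻¹ := by group
        _ = (y * nn p₂ * y⁻¹) * b' := by rw [h1]; group
        _ = nn p * b' := by rw [hnn₂]
  · refine el_of hG sv₂ f0 f1 fun q hq => ?_
    rcases Q.Q_V hG S sv t₁ (o2_cent_conj hnn₂ hq) hcV with h1 | h1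
    · left
      calc q * (y⁻¹ * c * y) * q⁻¹ = y⁻¹ * ((y * q * y⁻¹) * c * (y * q * y⁻¹)⁻¹) * y := by group
        _ = y⁻¹ * c * y := by rw [h1]
    · right
      calc q * (y⁻¹ * c * y) * q⁻¹ = y⁻¹ * ((y * q * y⁻¹) * c * (y * q * y⁻¹)⁻¹) * y := by group
        _ = y⁻¹ * (nn p * c) * y := by rw [h1]
        _ = nn p₂ * (y⁻¹ * c * y) := by rw [← hnn₂]; group

/-- `q = 2`, natural: `[V_P, S]` has order 2 -/
theorem nat_two {P : Subgroup G} (hP : IsParS (S : Subgroup G) P) {F : Type} [Field F] [Finite F] [CharP F 2]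
    (M : FFThm.NatK F (S : Subgroup G) P (zl (S : Subgroup G) P) (cv (S : Subgroup G) P) 1) (hF : Nat.card F = 2) :
    ∃ r ∈ zc (S : Subgroup G), ∀ s ∈ (S : Subgroup G), ∀ w ∈ zl (S : Subgroup G) P,
      s * w * s⁻¹ = w ∨ s * w * s⁻¹ = r * w := by
  obtain ⟨K, N, s⟩ := MixOne.exists_spl hG hP M.natOver (HOne.splitPar_of_two hG S hP M.natOver hF)
  have hcard : Nat.card (HOne.Main.vx (S : Subgroup G) P) = 4 := by
    rw [N.card_V, hF]
    norm_num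
  have hle := HOne.cv_le_zc hG S hP M.natOver (HOne.splitPar_of_two hG S hP M.natOver hF)
  have hZ := F4Leaf.NatStep.card_zc hG hP M hF
  -- `r ∈ Ω₁Z(S) ∩ N`
  obtain ⟨r, hrN, hr1, hrz⟩ : ∃ r ∈ HOne.Main.vx (S : Subgroup G) P, r ≠ 1 ∧ r ∈ zc (S : Subgroup G) := by
    by_contra hcon
    push Not at hcon
    have h1 : zc (S : Subgroup G) ≤ cv (S : Subgroup G) P := by
      intro z hz
      obtain ⟨n, hn, d, hd, rfl⟩ := s.dec z (zc_le_zl _ _ hz)
      have h2 : n ∈ zc (S : Subgroup G) := by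
        have := mul_mem hz (inv_mem (hle hd))
        rwa [mul_inv_cancel_right] at this
      have h3 : n = 1 := by
        by_contra hn1
        exact hcon n hn hn1 h2
      rw [h3, one_mul]
      exact hd
    have h2 : Nat.card (zc (S : Subgroup G)) ≤ Nat.card (cv (S : Subgroup G) P) := card_le_of_le h1
    have h3 : 0 < Nat.card (cv (S : Subgroup G) P) := Nat.card_pos
    omega
  have hN4 : ∀ a ∈ HOne.Main.vx (S : Subgroup G) P, ∀ b ∈ HOne.Main.vx (S : Subgroup G) P, a ≠ 1 → b ≠ 1 → a ≠ r →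
      b ≠ r → a = b ∨ a = r * b := by
    intro a ha b hb ha1 hb1 har hbr
    by_contra hcon
    push Not at hcon
    obtain ⟨h1, h2⟩ := hcon
    have hbb : b * b = 1 := by
      have := zl_sq hP.le S.isPGroup' (not_dvd_relIndex S hP.le) (hP.isLoc.char2 S hG) b (s.NV hb)
      rwa [pow_two] at this
    have h3 : Nat.card (Fin 5) ≤ Nat.card (HOne.Main.vx (S : Subgroup G) P) := by
      refine Nat.card_le_card_of_injective
        (![1, ⟨r, hrN⟩, ⟨b, hb⟩, ⟨r * b, mul_mem hrN hb⟩, ⟨a, ha⟩] : Fin 5 → HOne.Main.vx (S : Subgroup G) P) ?_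
      have k1 : r * b ≠ 1 := fun e => hbr (by
        calc b = r⁻¹ * (r * b) := by group
          _ = r⁻¹ := by rw [e, mul_one]
          _ = r := by
            have := (mem_zc.1 hrz).2.2
            rw [pow_two] at this
            exact inv_eq_of_mul_eq_one_left this)
      have k2 : r * b ≠ r := fun e => hb1 (mul_eq_left.1 e)
      have k3 : r * b ≠ b := fun e => hr1 (mul_eq_right.1 e)
      intro u v huv
      fin_cases u <;> fin_cases v <;> first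
        | rfl
        | (exfalso
           simp only [Fin.mk_zero, Fin.mk_one, Fin.reduceFinMk, Fin.isValue, Matrix.cons_val_zero, Matrix.cons_val_one,
             Matrix.cons_val, Subtype.ext_iff, Subgroup.coe_one] at huv
           first
             | exact hr1 huv | exact hr1 huv.symm | exact hb1 huv | exact hb1 huv.symm | exact ha1 huv
             | exact ha1 huv.symm | exact hbr huv | exact hbr huv.symm | exact har huv | exact har huv.symm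
             | exact k1 huv | exact k1 huv.symm | exact k2 huv | exact k2 huv.symm | exact k3 huv
             | exact k3 huv.symm | exact h1 huv | exact h1 huv.symm | exact h2 huv | exact h2 huv.symm)
    rw [Nat.card_fin, hcard] at h3
    omega
  refine ⟨r, hrz, fun x hx w hw => ?_⟩
  have hxr : x * r * x⁻¹ = r := comm_iff.2 ((mem_zc.1 hrz).2.1 x hx)
  obtain ⟨n, hn, d, hd, rfl⟩ := s.dec w hw
  have hxd : x * d * x⁻¹ = d := comm_iff.2 ((mem_zc.1 (hle hd)).2.1 x hx)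
  have hxn : x * n * x⁻¹ ∈ HOne.Main.vx (S : Subgroup G) P :=
    (mem_normalizer_iff.1 (N.le (s.PK (hP.le hx))) n).1 hn
  have key : x * n * x⁻¹ = n ∨ x * n * x⁻¹ = r * n := by
    by_cases hn1 : n = 1
    · left; rw [hn1]; group
    by_cases hnr : n = r
    · left; rw [hnr, hxr]
    refine hN4 _ hxn _ hn (fun e => hn1 ?_) hn1 (fun e => hnr ?_) hnr
    · exact conj_inj (g := x) (by rw [e]; group)
    · exact conj_inj (g := x) (by rw [e, hxr])
  rcases key with h1 | h1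
  · left; rw [cm, hxd, h1]
  · right; rw [cm, hxd, h1, mul_assoc]

/-- **A natural partner.** -/
theorem nat_side {P₁ P₂ : Subgroup G} {y : G} {A : Subgroup G} {ε : (Fin (2 ^ 2 + 1) → ZMod 2) → G}
    (hl : LabZ S P₁ P₂ y 2 A ε) (hN : FrameMulti.IsNat (S : Subgroup G) P₂ 1) :
    ∃ p e, NatSide (S : Subgroup G) P₁ P₂ y p e := by
  obtain ⟨F, i1, i2, i3, ⟨M⟩⟩ := hN
  have hF := F4Leaf.NatStep.card_F hG (by norm_num) hl M
  have hev := hl.split.even
  have hP₁ := hl.pair.star₁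
  have hP₂ := hl.pair.star₂
  obtain ⟨r, hr, hrw⟩ := nat_two hG hP₂ M hF
  obtain ⟨b, hb, i, j, hij, hbs⟩ := S5.Nat.exists_swap hev hl.side (not_le_cent hG hl)
  obtain ⟨ρ, hρ0, hρ1, sv⟩ := Std.exists_sv hG S hl.split hP₁ hij (hl.le hb) hbs
  obtain ⟨p, hp⟩ : ∃ p : Fin 5 → G, p = fun k => ε (Pi.single (M := fun _ : Fin (2 ^ 2 + 1) => ZMod 2) (ρ k) 1) :=
    ⟨_, rfl⟩
  rw [← hp] at sv
  have hp0 : p 0 = ε (Pi.single i 1) := by rw [hp, ← hρ0]
  have hp1 : p 1 = ε (Pi.single j 1) := by rw [hp, ← hρ1]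
  have e0 := hbs.single i
  have e1 := hbs.single j
  rw [Equiv.swap_apply_left, ← hp0, ← hp1] at e0
  rw [Equiv.swap_apply_right, ← hp0, ← hp1] at e1
  -- `S^y` acts on `W`
  have hact : ∀ q ∈ cj y (S : Subgroup G), ∀ w ∈ cj y (zl (S : Subgroup G) P₂),
      q * w * q⁻¹ = w ∨ q * w * q⁻¹ = (y * r * y⁻¹) * w := by
    intro q hq w hw
    rcases hrw _ (mem_cj.1 hq) _ (mem_cj.1 hw) with h1 | h1
    · left
      calc q * w * q⁻¹ = y * (y⁻¹ * q * y * (y⁻¹ * w * y) * (y⁻¹ * q * y)⁻¹) * y⁻¹ := by group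
        _ = w := by rw [h1]; group
    · right
      calc q * w * q⁻¹ = y * (y⁻¹ * q * y * (y⁻¹ * w * y) * (y⁻¹ * q * y)⁻¹) * y⁻¹ := by group
        _ = (y * r * y⁻¹) * w := by rw [h1]; group
  -- `n = r^y`
  have hne : nn p ≠ 1 := sv.n_ne_one
  have hnr : nn p = y * r * y⁻¹ := by
    have h0 : p 0 ∈ zl (S : Subgroup G) P₁ := sv.pV 0
    have h2 : p 0 * b * (p 0)⁻¹ * b⁻¹ = nn p := by
      rw [sv.pinv, nn]
      calc p 0 * b * p 0 * b⁻¹ = p 0 * (b * p 0 * b⁻¹) := by group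
        _ = p 0 * p 1 := by rw [e0]
    rcases hact _ (hl.ge h0) b hb with h1 | h1
    · rw [h1, mul_inv_cancel] at h2
      exact absurd h2.symm hne
    · rw [h1, mul_inv_cancel_right] at h2
      exact h2.symm
  have hSn : ∀ q ∈ cj y (S : Subgroup G), q * nn p * q⁻¹ = nn p := by
    intro q hq
    have h1 : (y⁻¹ * q * y) * r * (y⁻¹ * q * y)⁻¹ = r := comm_iff.2 ((mem_zc.1 hr).2.1 _ (mem_cj.1 hq))
    rw [hnr]
    calc q * (y * r * y⁻¹) * q⁻¹ = y * ((y⁻¹ * q * y) * r * (y⁻¹ * q * y)⁻¹) * y⁻¹ := by group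
      _ = y * r * y⁻¹ := by rw [h1]
  have hNC : NCen p := by
    refine ⟨y • S, fun x hx => ?_⟩
    rw [mem_smul] at hx
    exact mem_cent.2 (hSn x (mem_cj.2 hx))
  have hQS : ∀ q ∈ o2 (centralizer ({nn p} : Set G)), q ∈ cj y (S : Subgroup G) := by
    intro q hq
    have h1 : ((y • S : Sylow 2 G) : Subgroup G) ≤ centralizer ({nn p} : Set G) := by
      intro x hx
      rw [mem_smul] at hx
      exact mem_cent.2 (hSn x (mem_cj.2 hx))
    have h2 := o2_le_of_sylow (y • S : Sylow 2 G).isPGroup' (not_dvd_relIndex (y • S : Sylow 2 G) h1) hq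
    rw [mem_cj]
    exact mem_smul.1 h2
  have hQW : ∀ q ∈ o2 (centralizer ({nn p} : Set G)), ∀ w ∈ cj y (zl (S : Subgroup G) P₂),
      q * w * q⁻¹ = w ∨ q * w * q⁻¹ = nn p * w := by
    intro q hq w hw
    rw [hnr]
    exact hact q (hQS q hq) w hw
  have hnW : nn p ∈ cj y (zl (S : Subgroup G) P₂) := by
    rw [mem_cj, hnr]
    have e : y⁻¹ * (y * r * y⁻¹) * y = r := by group
    rw [e]
    exact zc_le_zl _ _ hr
  refine ⟨p, b, sv, hNC, el_of hG sv e0 e1 fun q hq => hQW q hq b hb, hb, hnW, ?_, hQW⟩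
  intro w hw
  have hwS : w ∈ cj y (S : Subgroup G) := by
    rw [mem_cj] at hw ⊢
    exact ((hP₂.isLoc.zl_le S hG).trans (zc_le _)).trans (hP₂.isLoc.o2_le S) hw
  refine le_o2_of_comm hG (by rw [sq]; exact sv.nsq) hne (comm_iff.1 (hSn w hwS)) fun q hq => ?_
  rcases hQW q hq w hw with h1 | h1
  · left
    rw [comm_iff] at h1
    calc w * q * w⁻¹ * q⁻¹ = (q * w) * w⁻¹ * q⁻¹ := by rw [h1]
      _ = 1 := by group
  · right
    have h2 : q * w = nn p * w * q := by rw [← h1]; group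
    calc w * q * w⁻¹ * q⁻¹ = nn p * nn p * w * q * w⁻¹ * q⁻¹ := by rw [sv.nsq, one_mul]
      _ = nn p * (nn p * w * q) * w⁻¹ * q⁻¹ := by group
      _ = nn p * (q * w) * w⁻¹ * q⁻¹ := by rw [h2]
      _ = nn p := by group

end Cfsg.Agent.Omega.F4Leaf.Cen.Entry

end
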