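import Cfsg.Agent.Mrg.Omega.F4Leaf.Cen.Base
import Cfsg.Agent.Mrg.Omega.HOne.Main

section


/-!
# LeafF4, `m = 2`, `n` 2-central (bb OMEGA #18108): step (3)

`Out S P V₀ p r v e w` as in `Cen.Out`, `τ ∈ S` inducing `(0 2)(1 3)`, `b₀ = p 2 * p 4`, `u = r b₀ r⁻¹`.

* `Out.V_zcv` : `V_P ≤ Ω₁Z(O₂(C(v)))`;
* `Out.three` : with `g = r τ r`, `(g b₀ g⁻¹) b₀ ∈ Ω₁Z(T)`;
* `Out.three'` : `(τ u τ⁻¹) u ∈ Ω₁Z(T)`.
-/

set_option autoImplicit false

namespace Cfsg.Agent.Omega.F4Leaf.Cen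

open Subgroup Cfsg Cfsg.Agent.MinSimple.VModule
open Cfsg.Agent.ZN (zc zl o2)
open Cfsg.Agent.Omega.MinPar (IsPar IsParS IsLoc)
open Cfsg.Agent.Omega.NTwo (Fv D8 nn aa cm cc ci conj_inj comm_iff mem_cent o2_cent_conj o2_cent_conj' mem_zc_of
  norm_zc_cent)

universe u

variable {G : Type u} [Group G]

/-- `b₀ = p 2 * p 4` -/
abbrev bf (p : Fin 5 → G) : G := p 2 * p 4

theorem rs_cases : ∀ d : Equiv.Perm (Fin 5), Mod.Rs d →
    ((d 2 = 2 ∧ d 3 = 3 ∧ d 4 = 4) ∧ ((∀ i, d i = i) ∨ ∀ i, d i = Equiv.swap 0 1 i)) ∨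
      (d 2 = 3 ∧ d 3 = 2 ∧ d 4 = 4) := by decide +kernel

theorem sw01 : (∀ i : Fin 5, Equiv.swap (0 : Fin 5) 1 (Equiv.swap (0 : Fin 5) 1 i) = i) := by decide

namespace Out

section

variable [Finite G] {S : Sylow 2 G} {P V0 : Subgroup G} {p : Fin 5 → G} {r v e w : G} (h : Out S P V0 p r v e w)
include h

theorem sv : SV (S : Subgroup G) P V0 p := h.toSV

theorem v_ne_one : v ≠ 1 := by
  intro e1
  refine h.sv.a_ne_one (conj_inj (g := r) ?_)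
  rw [h.r_a, e1]; group

theorem v_sq : v * v = 1 := h.sv.v0_sq h.v_mem

theorem v_S {x : G} (hx : x ∈ (S : Subgroup G)) : x * v * x⁻¹ = v := h.cen v h.v_mem x (h.sv.le hx)

theorem v_zcT : v ∈ zc (TT (S : Subgroup G) p) := h.sv.zc_le_zcT (h.v0 h.v_mem)

theorem abf : aa p * bf p = p 3 * p 4 := by
  rw [aa, bf, h.comm 2 3, mul_assoc, ← mul_assoc (p 2) (p 2), h.sq, one_mul]

theorem bf_sq : bf p * bf p = 1 := by
  rw [bf, mul_assoc, ← mul_assoc (p 4), h.comm 4 2, mul_assoc (p 2), h.sq, mul_one, h.sq]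

theorem bf_V : bf p ∈ zl (S : Subgroup G) P := mul_mem (h.pV 2) (h.pV 4)

theorem a_bf : aa p * bf p = bf p * aa p := by
  rw [bf, ← mul_assoc, h.sv.pcomm', mul_assoc, h.sv.pcomm', ← mul_assoc]

theorem bf_ne_abf : bf p ≠ aa p * bf p := fun e1 => h.sv.a_ne_one (mul_right_cancel (e1.symm.trans (one_mul _).symm))

theorem V_zcD {x : G} (hx : x ∈ zl (S : Subgroup G) P) : x ∈ zc (o2 P) := h.par.isLoc.zl_le S h.char2 hx

theorem D_V {d x : G} (hd : d ∈ o2 P) (hx : x ∈ zl (S : Subgroup G) P) : d * x * d⁻¹ = x :=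
  comm_iff.2 ((mem_zc.1 (h.V_zcD hx)).2.1 d hd)

/-- `V_P ≤ Ω₁Z(O₂(C(v)))` -/
theorem V_zcv {x : G} (hx : x ∈ zl (S : Subgroup G) P) : x ∈ zc (o2 (centralizer {v})) := by
  have hP : P ≤ centralizer {v} := fun g hg => mem_cent.2 (h.cen v h.v_mem g hg)
  have h1 : o2 (centralizer {v}) ≤ o2 P := MinPar.o2_le_o2 S h.sv.le hP
  have h2 := h.V_zcD hx
  have h3 := (mem_zc.1 h2).2.2
  rw [sq] at h3
  refine mem_zc_of h.char2 h.v_sq h.v_ne_one h3 ?_ fun q hq => h.D_V (h1 hq) hx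
  exact h.cen v h.v_mem x (o2_le _ (zc_le _ h2))

/-- the points are permuted by `T` with `{0,1}`, `{2,3}`, `{4}` preserved -/
theorem rs {t : G} (ht : t ∈ TT (S : Subgroup G) p) : ∃ d, Mod.Rs d ∧ ∀ i, t * p i * t⁻¹ = p (d i) := by
  obtain ⟨h1, h2⟩ := mem_T.1 ht
  obtain ⟨d, hd, h3⟩ := h.act t h1
  refine ⟨d, ⟨?_, NTwo.D8_fix d hd⟩, h3⟩
  rcases NTwo.D8_part d hd with h4 | h4
  · exact h4
  · exfalso
    rw [nn, cm, h3, h3] at h2
    rcases h4 with ⟨e0, e1⟩ | ⟨e0, e1⟩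
    · rw [e0, e1] at h2; exact h.sv.n_ne_a h2.symm
    · rw [e0, e1, h.comm] at h2; exact h.sv.n_ne_a h2.symm

theorem e_T : e ∈ TT (S : Subgroup G) p := h.Q_T h.e_mem

/-- an element of `T` fixing `p 2` is in `D` or `e D` -/
theorem D_or {t : G} (ht : t ∈ TT (S : Subgroup G) p) (h2 : t * p 2 * t⁻¹ = p 2) : t ∈ o2 P ∨ e⁻¹ * t ∈ o2 P := by
  obtain ⟨d, hd, h3⟩ := h.rs ht
  rcases rs_cases d hd with ⟨-, h4 | h4⟩ | ⟨h4, -, -⟩
  · left
    exact (h.sv.mem_D h.char2 S).2 ⟨T_le ht, fun i => by rw [h3, h4]⟩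
  · right
    refine (h.sv.mem_D h.char2 S).2 ⟨mul_mem (inv_mem (T_le h.e_T)) (T_le ht), fun i => ?_⟩
    have h5 := h.e_p (Equiv.swap 0 1 i)
    rw [sw01] at h5
    calc e⁻¹ * t * p i * (e⁻¹ * t)⁻¹ = e⁻¹ * (t * p i * t⁻¹) * e := by group
      _ = p i := by rw [h3, h4, ← h.e_p i, ci]
  · rw [h3, h4] at h2
    exact absurd (h.inj h2) (by decide)

/-- the action of `T` on `b₀` -/
theorem T_bf {t : G} (ht : t ∈ TT (S : Subgroup G) p) :
    (t * p 2 * t⁻¹ = p 2 ∧ t * bf p * t⁻¹ = bf p) ∨ (t * p 2 * t⁻¹ = p 3 ∧ t * bf p * t⁻¹ = aa p * bf p) := by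
  obtain ⟨d, hd, h3⟩ := h.rs ht
  rcases rs_cases d hd with ⟨⟨h4, -, h5⟩, -⟩ | ⟨h4, -, h5⟩
  · left
    rw [bf, cm, h3, h3, h4, h5]
    exact ⟨rfl, rfl⟩
  · right
    rw [h.abf, bf, cm, h3, h3, h4, h5]
    exact ⟨rfl, rfl⟩

theorem T_bf' {t : G} (ht : t ∈ TT (S : Subgroup G) p) : t * bf p * t⁻¹ = bf p ∨ t * bf p * t⁻¹ = aa p * bf p :=
  (h.T_bf ht).imp And.right And.right

/-- an element of `T` inducing `(2 3)` -/
theorem exists_sw23 : ∃ t ∈ TT (S : Subgroup G) p, t * bf p * t⁻¹ = aa p * bf p := by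
  obtain ⟨t, ht, h1⟩ := h.act8 (Equiv.swap 2 3) (by decide +kernel)
  have ht' : t ∈ TT (S : Subgroup G) p := mem_T.2 ⟨ht, by rw [nn, cm, h1, h1]; rfl⟩
  refine ⟨t, ht', ?_⟩
  rw [h.abf, bf, cm, h1, h1]
  rfl

theorem r_conj {t : G} (ht : t ∈ TT (S : Subgroup G) p) : r * t * r⁻¹ ∈ TT (S : Subgroup G) p :=
  (mem_normalizer_iff.1 h.r_T t).1 ht

theorem r_conj' {t : G} (ht : t ∈ TT (S : Subgroup G) p) : r⁻¹ * t * r ∈ TT (S : Subgroup G) p := by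
  have := (mem_normalizer_iff.1 (inv_mem h.r_T) t).1 ht
  rwa [inv_inv] at this

theorem s_conj {x t : G} (hx : x ∈ (S : Subgroup G)) (ht : t ∈ TT (S : Subgroup G) p) :
    x * t * x⁻¹ ∈ TT (S : Subgroup G) p := (mem_normalizer_iff.1 (h.sv.le_norm_T hx) t).1 ht

theorem r_zc {x : G} (hx : x ∈ zc (TT (S : Subgroup G) p)) : r * x * r⁻¹ ∈ zc (TT (S : Subgroup G) p) :=
  (mem_normalizer_iff.1 (normalizer_le_normalizer_zc _ h.r_T) x).1 hx

theorem r_zc' {x : G} (hx : x ∈ zc (TT (S : Subgroup G) p)) : r⁻¹ * x * r ∈ zc (TT (S : Subgroup G) p) := by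
  have := (mem_normalizer_iff.1 (inv_mem (normalizer_le_normalizer_zc _ h.r_T)) x).1 hx
  rwa [inv_inv] at this

theorem n_a_inv : r⁻¹ * aa p * r = v := by
  rw [← h.r_v]; group

theorem r_v_inv : r⁻¹ * v * r = aa p := by
  rw [← h.r_a]; group

theorem r_n_inv : r⁻¹ * nn p * r = nn p := by
  conv_lhs => rw [← h.r_n]
  group

/-- `w ∈ P` -/
theorem w_P : w ∈ P := by
  obtain ⟨g, hg, h1⟩ := h.full (Equiv.swap 0 2 * Equiv.swap 1 4)
  have h2 : g * nn p * g⁻¹ = p 2 * p 4 := by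
    rw [nn, cm, h1, h1]
    rfl
  have h3 := h.sv.le (T_le (h.Q_T (o2_cent_conj' h2 h.w_mem)))
  have h4 : g * (g⁻¹ * w * g) * g⁻¹ = w := by group
  rw [← h4]
  exact mul_mem (mul_mem hg h3) (inv_mem hg)

theorem w_a : w * aa p * w⁻¹ = p 4 * p 3 := by
  rw [aa, cm, h.w_p, h.w_p]
  rfl

theorem w_bf : w * bf p * w⁻¹ = bf p := mem_cent.1 (o2_le _ h.w_mem)

/-- `D` centralises every element `y` of `Ω₁Z(O₂(C(n)))` on which `T` acts with `[y, T] ≤ ⟨a⟩` -/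
theorem D_y {y : G} (hy : y ∈ zc (o2 (centralizer {nn p})))
    (hT : ∀ t ∈ TT (S : Subgroup G) p, t * y * t⁻¹ = y ∨ t * y * t⁻¹ = aa p * y) :
    ∀ d ∈ o2 P, d * y * d⁻¹ = y := by
  intro d hd
  have hDT := h.sv.D_le_T h.char2 S
  have hyD : y ∈ o2 P := h.zcQ_D hy
  refine (hT d (hDT hd)).resolve_right fun e1 => ?_
  have hwP := h.w_P
  -- `y` commutes with `Ω₁Z(Q₂₄)`
  have hyb : y * (p 2 * p 4) * y⁻¹ = p 2 * p 4 := h.D_V hyD h.bf_V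
  have h1 : ∀ x ∈ zc (o2 (centralizer {p 2 * p 4})), y * x = x * y := by
    intro x hx
    have h2 := hT x (hDT (h.zcQ'_D hx))
    rcases h2 with h2 | h2
    · exact (comm_iff.1 h2).symm
    · exfalso
      have h3 : aa p = x * (y * x * y⁻¹)⁻¹ := by
        have : aa p = x * y * x⁻¹ * y⁻¹ := by rw [h2]; group
        rw [this]; group
      have h4 : aa p ∈ zc (o2 (centralizer {p 2 * p 4})) := by
        rw [h3]
        exact mul_mem hx (inv_mem (norm_zc_cent hyb hx))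
      have h5 := comm_iff.2 ((mem_zc.1 h4).2.1 w h.w_mem)
      rw [h.w_a, h.comm 4 3, aa, h.comm 2 3] at h5
      exact absurd (h.inj (mul_left_cancel h5)) (by decide)
  have h2 : y ∈ o2 (centralizer {p 2 * p 4}) := h.fact y hy h1
  -- `w⁻¹ y w = c y`
  obtain ⟨c, hc, hcV, hcc, hcw⟩ : ∃ c : G, w * y * w⁻¹ = c * y ∧ c ∈ zl (S : Subgroup G) P ∧ c * c = 1 ∧
      w * c * w⁻¹ = c := by
    rcases h.w_Q y h2 with h3 | h3
    · exact ⟨1, by rw [h3, one_mul], one_mem _, one_mul 1, by group⟩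
    · exact ⟨p 2 * p 4, h3, h.bf_V, h.bf_sq, h.w_bf⟩
  have hc' : w⁻¹ * y * w = c * y := by
    have h3 : w * (c * y) * w⁻¹ = y := by rw [cm, hcw, hc, ← mul_assoc, hcc, one_mul]
    calc w⁻¹ * y * w = w⁻¹ * (w * (c * y) * w⁻¹) * w := by rw [h3]
      _ = c * y := by group
  have hd' : w * d * w⁻¹ ∈ o2 P := (mem_normalizer_iff.1 (le_normalizer_o2 P hwP) d).1 hd
  have hcomm : c * (p 4 * p 3) = p 4 * p 3 * c := by
    have h5 : p 4 * p 3 ∈ zl (S : Subgroup G) P := mul_mem (h.pV 4) (h.pV 3)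
    exact (mem_zc.1 (h.V_zcD h5)).2.1 c (zc_le _ (h.V_zcD hcV))
  have key : w * d * w⁻¹ * y * (w * d * w⁻¹)⁻¹ = p 4 * p 3 * y := by
    calc w * d * w⁻¹ * y * (w * d * w⁻¹)⁻¹ = w * (d * (w⁻¹ * y * w) * d⁻¹) * w⁻¹ := by group
      _ = w * (c * (aa p * y)) * w⁻¹ := by rw [hc', cm d, h.D_V hd hcV, e1]
      _ = c * (p 4 * p 3 * (c * y)) := by rw [cm, cm, hcw, h.w_a, hc]
      _ = p 4 * p 3 * (c * c) * y := by rw [← mul_assoc, hcomm]; group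
      _ = p 4 * p 3 * y := by rw [hcc, mul_one]
  rcases hT _ (hDT hd') with h5 | h5
  · rw [key] at h5
    exact h.mul_ne_one (show (4 : Fin 5) ≠ 3 by decide) (mul_right_cancel (h5.trans (one_mul y).symm))
  · rw [key] at h5
    have h6 := mul_right_cancel h5
    rw [h.comm 4 3, aa, h.comm 2 3] at h6
    exact absurd (h.inj (mul_left_cancel h6)) (by decide)

section tau

variable {τ : G} (hτS : τ ∈ (S : Subgroup G)) (hτ : ∀ i, τ * p i * τ⁻¹ = p (Mod.χ i))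

omit h hτS [Finite G] in
include hτ in
theorem τ_n : τ * nn p * τ⁻¹ = aa p := by
  rw [nn, cm, hτ, hτ]; rfl

omit h hτS [Finite G] in
include hτ in
theorem τ_a : τ * aa p * τ⁻¹ = nn p := by
  rw [aa, cm, hτ, hτ]; rfl

include hτS hτ

theorem g_a : r * τ * r * aa p * (r * τ * r)⁻¹ = aa p := by
  calc r * τ * r * aa p * (r * τ * r)⁻¹ = r * (τ * (r * aa p * r⁻¹) * τ⁻¹) * r⁻¹ := by group
    _ = aa p := by rw [h.r_a, h.v_S hτS, h.r_v]

theorem g_v : r * τ * r * v * (r * τ * r)⁻¹ = nn p := by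
  calc r * τ * r * v * (r * τ * r)⁻¹ = r * (τ * (r * v * r⁻¹) * τ⁻¹) * r⁻¹ := by group
    _ = nn p := by rw [h.r_v, τ_a hτ, h.r_n]

omit hτ in
theorem g_T {t : G} (ht : t ∈ TT (S : Subgroup G) p) : r * τ * r * t * (r * τ * r)⁻¹ ∈ TT (S : Subgroup G) p := by
  have h1 := h.r_conj (h.s_conj hτS (h.r_conj ht))
  have h2 : r * τ * r * t * (r * τ * r)⁻¹ = r * (τ * (r * t * r⁻¹) * τ⁻¹) * r⁻¹ := by group
  rwa [h2]

omit hτ in
theorem g_T' {t : G} (ht : t ∈ TT (S : Subgroup G) p) : (r * τ * r)⁻¹ * t * (r * τ * r) ∈ TT (S : Subgroup G) p := by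
  have h1 := h.r_conj' (h.s_conj (inv_mem hτS) (h.r_conj' ht))
  have h2 : (r * τ * r)⁻¹ * t * (r * τ * r) = r⁻¹ * (τ⁻¹ * (r⁻¹ * t * r) * τ⁻¹⁻¹) * r := by group
  rwa [h2]

theorem y_zc : r * τ * r * bf p * (r * τ * r)⁻¹ ∈ zc (o2 (centralizer {nn p})) := by
  have h1 := h.V_zcv h.bf_V
  obtain ⟨h2, h3, h4⟩ := mem_zc.1 h1
  have hg := h.g_v hτS hτ
  refine mem_zc.2 ⟨o2_cent_conj hg h2, fun b hb => ?_, ?_⟩
  · have h5 := h3 _ (o2_cent_conj' hg hb)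
    calc b * (r * τ * r * bf p * (r * τ * r)⁻¹)
        = (r * τ * r) * ((r * τ * r)⁻¹ * b * (r * τ * r) * bf p) * (r * τ * r)⁻¹ := by group
      _ = (r * τ * r) * (bf p * ((r * τ * r)⁻¹ * b * (r * τ * r))) * (r * τ * r)⁻¹ := by rw [h5]
      _ = _ := by group
  · rw [sq] at h4 ⊢
    rw [← cm, h4]; group

theorem T_y {t : G} (ht : t ∈ TT (S : Subgroup G) p) :
    t * (r * τ * r * bf p * (r * τ * r)⁻¹) * t⁻¹ = r * τ * r * bf p * (r * τ * r)⁻¹ ∨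
      t * (r * τ * r * bf p * (r * τ * r)⁻¹) * t⁻¹ = aa p * (r * τ * r * bf p * (r * τ * r)⁻¹) := by
  have h1 : t * (r * τ * r * bf p * (r * τ * r)⁻¹) * t⁻¹ =
      (r * τ * r) * (((r * τ * r)⁻¹ * t * (r * τ * r)) * bf p * ((r * τ * r)⁻¹ * t * (r * τ * r))⁻¹) *
        (r * τ * r)⁻¹ := by group
  rw [h1]
  rcases h.T_bf' (h.g_T' hτS ht) with h2 | h2
  · left; rw [h2]
  · right; rw [h2, cm, h.g_a hτS hτ]

/-- (3) -/
theorem three : r * τ * r * bf p * (r * τ * r)⁻¹ * bf p ∈ zc (TT (S : Subgroup G) p) := by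
  have hy := h.y_zc hτS hτ
  have hTy : ∀ t ∈ TT (S : Subgroup G) p, _ := fun t ht => h.T_y hτS hτ ht
  have hD := h.D_y hy hTy
  obtain ⟨t₁, ht₁, h1⟩ := h.exists_sw23
  have ht₀ := h.g_T hτS ht₁
  have h0 : (r * τ * r * t₁ * (r * τ * r)⁻¹) * (r * τ * r * bf p * (r * τ * r)⁻¹) *
      (r * τ * r * t₁ * (r * τ * r)⁻¹)⁻¹ = aa p * (r * τ * r * bf p * (r * τ * r)⁻¹) := by
    have h2 : (r * τ * r * t₁ * (r * τ * r)⁻¹) * (r * τ * r * bf p * (r * τ * r)⁻¹) *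
      (r * τ * r * t₁ * (r * τ * r)⁻¹)⁻¹ = (r * τ * r) * (t₁ * bf p * t₁⁻¹) * (r * τ * r)⁻¹ := by group
    rw [h2, h1, cm, h.g_a hτS hτ]
  revert hy hTy hD ht₀ h0
  generalize r * τ * r * bf p * (r * τ * r)⁻¹ = y
  generalize r * τ * r * t₁ * (r * τ * r)⁻¹ = t₀
  intro hy hTy hD ht₀ h0
  have hDT := h.sv.D_le_T h.char2 S
  have hyD : y ∈ o2 P := h.zcQ_D hy
  have hyy : y * y = 1 := by
    have := (mem_zc.1 hy).2.2
    rwa [sq] at this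
  -- elements of `T` fixing `p 2` centralise `y`
  have h2 : ∀ t ∈ TT (S : Subgroup G) p, t * p 2 * t⁻¹ = p 2 → t * y * t⁻¹ = y := by
    intro t ht h3
    rcases h.D_or ht h3 with h4 | h4
    · exact hD t h4
    · have h5 := hD _ h4
      have h6 : e * y * e⁻¹ = y := comm_iff.2 ((mem_zc.1 hy).2.1 e h.e_mem)
      calc t * y * t⁻¹ = e * (e⁻¹ * t * y * (e⁻¹ * t)⁻¹) * e⁻¹ := by group
        _ = y := by rw [h5, h6]
  have hay : y ≠ aa p * y := fun e1 => h.sv.a_ne_one (mul_right_cancel (e1.symm.trans (one_mul _).symm))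
  have h3 : t₀ * p 2 * t₀⁻¹ = p 3 := by
    rcases h.T_bf ht₀ with ⟨h4, -⟩ | ⟨h4, -⟩
    · exact absurd ((h2 t₀ ht₀ h4).symm.trans h0) hay
    · exact h4
  have hby : bf p * y = y * bf p := by
    have := h.D_V hyD h.bf_V
    rw [comm_iff] at this
    exact this.symm
  refine mem_zc.2 ⟨mul_mem (hDT hyD) (hDT (zc_le _ (h.V_zcD h.bf_V))), fun t ht => comm_iff.1 ?_, ?_⟩
  · rw [cm]
    rcases h.T_bf ht with ⟨h4, h5⟩ | ⟨h4, h5⟩
    · rw [h2 t ht h4, h5]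
    · have h6 : t * y * t⁻¹ = aa p * y := by
        have h7 : t * t₀⁻¹ * p 2 * (t * t₀⁻¹)⁻¹ = p 2 := by
          obtain ⟨d, hd, h8⟩ := h.rs ht₀
          obtain ⟨d', hd', h9⟩ := h.rs ht
          have h10 : t₀ * p 3 * t₀⁻¹ = p 2 := by
            rcases rs_cases d hd with ⟨⟨q1, -, -⟩, -⟩ | ⟨-, q1, -⟩
            · rw [h8, q1] at h3
              exact absurd (h.inj h3) (by decide)
            · rw [h8, q1]
          have h11 : t * p 3 * t⁻¹ = p 2 := by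
            rcases rs_cases d' hd' with ⟨⟨q1, -, -⟩, -⟩ | ⟨-, q1, -⟩
            · rw [h9, q1] at h4
              exact absurd (h.inj h4) (by decide)
            · rw [h9, q1]
          calc t * t₀⁻¹ * p 2 * (t * t₀⁻¹)⁻¹ = t * (t₀⁻¹ * p 2 * t₀) * t⁻¹ := by group
            _ = t * p 3 * t⁻¹ := by rw [← h10]; group
            _ = p 2 := h11
        have h8 := h2 _ (mul_mem ht (inv_mem ht₀)) h7
        have h12 : t * t₀⁻¹ * aa p * (t * t₀⁻¹)⁻¹ = aa p := h.sv.T_a (mul_mem ht (inv_mem ht₀))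
        calc t * y * t⁻¹ = t * t₀⁻¹ * (t₀ * y * t₀⁻¹) * (t * t₀⁻¹)⁻¹ := by group
          _ = aa p * y := by rw [h0, cm, h12, h8]
      rw [h6, h5]
      have h14 : y * aa p = aa p * y := comm_iff.1 (h.D_V hyD h.sv.a_V)
      calc aa p * y * (aa p * bf p) = aa p * (y * aa p) * bf p := by group
        _ = (aa p * aa p) * y * bf p := by rw [h14]; group
        _ = y * bf p := by rw [h.sv.asq, one_mul]
  · rw [sq]
    calc y * bf p * (y * bf p) = y * (bf p * y) * bf p := by group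
      _ = (y * y) * (bf p * bf p) := by rw [hby]; group
      _ = 1 := by rw [hyy, h.bf_sq, one_mul]

end tau

/-! ### `u = r b₀ r⁻¹` -/

theorem u_sq : (r * bf p * r⁻¹) * (r * bf p * r⁻¹) = 1 := by
  rw [← cm, h.bf_sq]; group

theorem bf_T : bf p ∈ TT (S : Subgroup G) p := h.sv.D_le_T h.char2 S (zc_le _ (h.V_zcD h.bf_V))

theorem u_T : r * bf p * r⁻¹ ∈ TT (S : Subgroup G) p := h.r_conj h.bf_T

theorem u_comm {x : G} (hx : x ∈ zc (TT (S : Subgroup G) p)) : x * (r * bf p * r⁻¹) = r * bf p * r⁻¹ * x :=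
  ((mem_zc.1 hx).2.1 _ h.u_T).symm

/-- the action of `T` on `u` -/
theorem T_u {t : G} (ht : t ∈ TT (S : Subgroup G) p) :
    t * (r * bf p * r⁻¹) * t⁻¹ = r * bf p * r⁻¹ ∨ t * (r * bf p * r⁻¹) * t⁻¹ = v * (r * bf p * r⁻¹) := by
  have h1 : t * (r * bf p * r⁻¹) * t⁻¹ = r * ((r⁻¹ * t * r) * bf p * (r⁻¹ * t * r)⁻¹) * r⁻¹ := by group
  rw [h1]
  rcases h.T_bf' (h.r_conj' ht) with h2 | h2
  · left; rw [h2]
  · right; rw [h2, cm, h.r_a]

/-- `r⁻¹ b₀ r ∈ {u, v u}` -/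
theorem rinv_bf : r⁻¹ * bf p * r = r * bf p * r⁻¹ ∨ r⁻¹ * bf p * r = v * (r * bf p * r⁻¹) := by
  have h1 : r⁻¹ * bf p * r = r * ((r * r)⁻¹ * bf p * (r * r)⁻¹⁻¹) * r⁻¹ := by group
  rw [h1]
  rcases h.T_bf' (inv_mem h.r_sq) with h2 | h2
  · left; rw [h2]
  · right; rw [h2, cm, h.r_a]

/-- (3), conjugated by `r⁻¹` : `(τ u τ⁻¹) u ∈ Ω₁Z(T)` -/
theorem three' {τ : G} (hτS : τ ∈ (S : Subgroup G)) (hτ : ∀ i, τ * p i * τ⁻¹ = p (Mod.χ i)) :
    τ * (r * bf p * r⁻¹) * τ⁻¹ * (r * bf p * r⁻¹) ∈ zc (TT (S : Subgroup G) p) := by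
  have h1 := h.r_zc' (h.three hτS hτ)
  have h2 : r⁻¹ * (r * τ * r * bf p * (r * τ * r)⁻¹ * bf p) * r =
      τ * (r * bf p * r⁻¹) * τ⁻¹ * (r⁻¹ * bf p * r) := by group
  rw [h2] at h1
  rcases h.rinv_bf with h3 | h3
  · rwa [h3] at h1
  · have h4 := mul_mem h1 h.v_zcT
    have h5 : τ * (r * bf p * r⁻¹) * τ⁻¹ * (r⁻¹ * bf p * r) * v = τ * (r * bf p * r⁻¹) * τ⁻¹ * (r * bf p * r⁻¹) := by
      rw [h3, h.u_comm h.v_zcT, mul_assoc, mul_assoc _ v v, h.v_sq, mul_one]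
    rwa [h5] at h4

end

end Out

end Cfsg.Agent.Omega.F4Leaf.Cen

end

section


/-!
# LeafF4, `m = 2`, `n` 2-central (bb OMEGA #18108): steps (4), (5), the natural member `R` over `S`

* `Out.exists_ex` : there are `R ∈ P*(S)` with `|V_R| = 2 |Ω₁Z(S)|`, `C_{V_R}(O²(R)) ≠ 1`, and `k` with
  `V_R^k ≤ O₂(C(n)) ≤ S^k`, `c = p 0 * p 4 ∈ V_R^k` and `V_P = C_{V_P}(O₂(C(n))) ⟨c⟩` (`Ex S P p R k`);
* `Ex.nat`, `Ex.nonFree_nat` : a partner `P₂` with `V' = (V_{P₂})^y ≤ O₂(C(n))`, `n ∈ Ω₁Z(S)^y` : `(R, P₂)` is a mutual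
  pair;
* `Ex.tt`, `Ex.nonFree_tt` : two such `P`, `P₂` with the same `n` : `(R, R₂)` is a mutual pair.
-/

set_option autoImplicit false

namespace Cfsg.Agent.Omega.F4Leaf.Cen

open Subgroup Pointwise Cfsg Cfsg.Agent.MinSimple.VModule
open Cfsg.Agent.ZN (zc zl o2)
open Cfsg.Agent.Omega.MinPar (IsPar IsParS IsLoc)
open Cfsg.Agent.Omega.FrameFF (cv)
open Cfsg.Agent.Omega.HOne.Main (NonFree)
open Cfsg.Agent.Omega.NTwo (Fv D8 nn aa cm cc ci conj_inj comm_iff mem_cent o2_cent_conj o2_cent_conj' mem_zc_of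
  norm_zc_cent mem_csmul csmul_mem)
open scoped commutatorElement

universe u

variable {G : Type u} [Group G]

/-- `Z ∪ Z u` -/
def dbl (Z : Subgroup G) (u : G) (hu : u * u = 1) (hc : ∀ z ∈ Z, z * u = u * z) : Subgroup G where
  carrier := {x | x ∈ Z ∨ x * u ∈ Z}
  one_mem' := Or.inl (one_mem _)
  mul_mem' := by
    rintro x y (hx | hx) (hy | hy)
    · exact Or.inl (mul_mem hx hy)
    · right
      rw [mul_assoc]
      exact mul_mem hx hy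
    · right
      have : x * y * u = x * u * y := by rw [mul_assoc, hc y hy, ← mul_assoc]
      rw [this]
      exact mul_mem hx hy
    · left
      have h1 := hc _ hy
      have h2 : x * y = x * u * (y * u) := by
        calc x * y = x * (y * (u * u)) := by rw [hu, mul_one]
          _ = x * (y * u * u) := by group
          _ = x * u * (y * u) := by rw [h1]; group
      rw [h2]
      exact mul_mem hx hy
  inv_mem' := by
    rintro x (hx | hx)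
    · exact Or.inl (inv_mem hx)
    · right
      have h1 := inv_mem hx
      have h2 := hc _ h1
      have h3 : x⁻¹ * u = (x * u)⁻¹ := by
        have h4 : x⁻¹ = u * (x * u)⁻¹ := by group
        rw [h4, ← h2, mul_assoc, hu, mul_one]
      rw [h3]
      exact h1

theorem mem_dbl {Z : Subgroup G} {u : G} {hu : u * u = 1} {hc : ∀ z ∈ Z, z * u = u * z} {x : G} :
    x ∈ dbl Z u hu hc ↔ x ∈ Z ∨ x * u ∈ Z := Iff.rfl

theorem le_dbl {Z : Subgroup G} {u : G} {hu : u * u = 1} {hc : ∀ z ∈ Z, z * u = u * z} : Z ≤ dbl Z u hu hc :=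
  fun _ hx => Or.inl hx

theorem u_mem_dbl {Z : Subgroup G} {u : G} {hu : u * u = 1} {hc : ∀ z ∈ Z, z * u = u * z} : u ∈ dbl Z u hu hc :=
  Or.inr (by rw [hu]; exact one_mem _)

theorem dbl_eq_of_lt {Z K : Subgroup G} {u : G} {hu : u * u = 1} {hc : ∀ z ∈ Z, z * u = u * z} (h1 : Z ≤ K)
    (h2 : K ≤ dbl Z u hu hc) (h3 : K ≠ Z) : K = dbl Z u hu hc := by
  refine le_antisymm h2 ?_
  have h4 : ¬ K ≤ Z := fun h4 => h3 (le_antisymm h4 h1)
  obtain ⟨x, hx, hxZ⟩ := SetLike.not_le_iff_exists.1 h4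
  have h5 : u ∈ K := by
    rcases mem_dbl.1 (h2 hx) with h6 | h6
    · exact absurd h6 hxZ
    · have := mul_mem (inv_mem hx) (h1 h6)
      rwa [inv_mul_cancel_left] at this
  rintro y (hy | hy)
  · exact h1 hy
  · have h6 := mul_mem (h1 hy) h5
    rwa [mul_assoc, hu, mul_one] at h6

theorem card_dbl [Finite G] {Z : Subgroup G} {u : G} {hu : u * u = 1} {hc : ∀ z ∈ Z, z * u = u * z} (h : u ∉ Z) :
    Nat.card (dbl Z u hu hc) = 2 * Nat.card Z := by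
  have e : Nat.card (Z.subgroupOf (dbl Z u hu hc)) = Nat.card Z :=
    Nat.card_congr (subgroupOfEquivOfLe le_dbl).toEquiv
  have h1 := card_mul_index (Z.subgroupOf (dbl Z u hu hc))
  have h3 : (Z.subgroupOf (dbl Z u hu hc)).index = 2 := by
    rw [index_eq_two_iff]
    refine ⟨⟨u, u_mem_dbl⟩, fun b => ?_⟩
    rw [mem_subgroupOf, mem_subgroupOf]
    change Xor ((b : G) * u ∈ Z) ((b : G) ∈ Z)
    rcases mem_dbl.1 b.2 with hb | hb
    · refine Or.inr ⟨hb, fun h4 => h ?_⟩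
      have := mul_mem (inv_mem hb) h4
      rwa [inv_mul_cancel_left] at this
    · refine Or.inl ⟨hb, fun h4 => h ?_⟩
      have := mul_mem (inv_mem h4) hb
      rwa [inv_mul_cancel_left] at this
  rw [e, h3] at h1
  omega

theorem le_normalizer_of {K H : Subgroup G} (h : ∀ x ∈ K, ∀ y ∈ H, x * y * x⁻¹ ∈ H) :
    K ≤ normalizer (H : Set G) := by
  intro x hx
  rw [mem_normalizer_iff]
  refine fun y => ⟨h x hx y, fun hy => ?_⟩
  have := h x⁻¹ (inv_mem hx) _ hy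
  have e : x⁻¹ * (x * y * x⁻¹) * x⁻¹⁻¹ = y := by group
  rwa [e] at this

/-- The natural member `R` found over `S`, in the position of `O₂(C(n))`. -/
structure Ex (S : Sylow 2 G) (P : Subgroup G) (p : Fin 5 → G) (R : Subgroup G) (k : G) : Prop where
  star : IsParS (S : Subgroup G) R
  card : Nat.card (zl (S : Subgroup G) R) = 2 * Nat.card (zc (S : Subgroup G))
  ne : cv (S : Subgroup G) R ≠ ⊥
  VQ : ∀ x ∈ zl (S : Subgroup G) R, k * x * k⁻¹ ∈ o2 (centralizer {nn p})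
  QS : ∀ q ∈ o2 (centralizer {nn p}), k⁻¹ * q * k ∈ (S : Subgroup G)
  c_mem : k⁻¹ * (p 0 * p 4) * k ∈ zl (S : Subgroup G) R
  cen : ∀ x ∈ zl (S : Subgroup G) P, (∀ q ∈ o2 (centralizer {nn p}), q * x = x * q) ∨
    ∀ q ∈ o2 (centralizer {nn p}), q * (x * (p 0 * p 4)) = x * (p 0 * p 4) * q
  V_Q : zl (S : Subgroup G) P ≤ o2 (centralizer {nn p})
  c_V : p 0 * p 4 ∈ zl (S : Subgroup G) P

/-- `⟨S, C_P(n)^r⟩` -/
def Hs (S : Sylow 2 G) (P : Subgroup G) (p : Fin 5 → G) (r : G) : Subgroup G :=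
  (S : Subgroup G) ⊔ MulAut.conj r • (P ⊓ centralizer {nn p})

theorem qs_cases : ∀ σ : Equiv.Perm (Fin 5), Mod.Qs σ →
    ((σ 2 = 2 ∧ σ 4 = 4) ∨ (σ 2 = 3 ∧ σ 4 = 4) ∨ (σ 2 = 2 ∧ σ 4 = 3) ∨ (σ 2 = 4 ∧ σ 4 = 3) ∨
      (σ 2 = 3 ∧ σ 4 = 2) ∨ (σ 2 = 4 ∧ σ 4 = 2)) := by decide +kernel

namespace Out

variable [Finite G] {S : Sylow 2 G} {P V0 : Subgroup G} {p : Fin 5 → G} {r v e w : G} (h : Out S P V0 p r v e w)
include h

/-! ### (4) -/

theorem u_ne : r * bf p * r⁻¹ ∉ zc (TT (S : Subgroup G) p) := by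
  intro h1
  obtain ⟨t, ht, h2⟩ := h.exists_sw23
  have h3 := h.r_zc' h1
  have h4 : r⁻¹ * (r * bf p * r⁻¹) * r = bf p := by group
  rw [h4] at h3
  exact h.bf_ne_abf ((comm_iff.2 ((mem_zc.1 h3).2.1 t ht)).symm.trans h2)

theorem u_notin : r * bf p * r⁻¹ ∉ zc (S : Subgroup G) := fun h1 => h.u_ne (h.sv.zc_le_zcT h1)

/-- `(τ u τ⁻¹) u ∈ Ω₁Z(S)` -/
theorem b_mem {τ : G} (hτS : τ ∈ (S : Subgroup G)) (hτ : ∀ i, τ * p i * τ⁻¹ = p (Mod.χ i)) :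
    τ * (r * bf p * r⁻¹) * τ⁻¹ * (r * bf p * r⁻¹) ∈ zc (S : Subgroup G) := by
  have h1 := h.three' hτS hτ
  have hu := h.u_sq
  have hT := fun {t : G} (ht : t ∈ TT (S : Subgroup G) p) => h.T_u ht
  have hττ : τ * τ ∈ TT (S : Subgroup G) p := by
    refine mem_T.2 ⟨mul_mem hτS hτS, ?_⟩
    rw [← cc, τ_n hτ, τ_a hτ]
  rcases h.sv.mem_zcT h.char2 S h1 with h2 | h2
  · exact h2
  exfalso
  revert h1 h2 hu hT
  generalize r * bf p * r⁻¹ = u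
  intro h1 hu hT h2
  obtain ⟨z, hz⟩ : ∃ z, z = nn p * (τ * u * τ⁻¹ * u) := ⟨_, rfl⟩
  rw [← hz] at h2
  have h3 : τ * u * τ⁻¹ = nn p * z * u := by
    have h4 : nn p * (nn p * (τ * u * τ⁻¹ * u)) * u = (nn p * nn p) * (τ * u * τ⁻¹) * (u * u) := by group
    rw [hz, h4, h.sv.nsq, hu, one_mul, mul_one]
  obtain ⟨z1, z2, z3⟩ := mem_zc.1 h2
  rw [sq] at z3
  have h5 : τ * z * τ⁻¹ = z := comm_iff.2 (z2 τ hτS)
  have h6 : τ * τ * u * (τ * τ)⁻¹ = p 4 * u := by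
    rw [← cc, h3, cm, cm, τ_n hτ, h5, h3]
    calc aa p * z * (nn p * z * u) = aa p * (z * nn p) * z * u := by group
      _ = aa p * nn p * (z * z) * u := by rw [← z2 _ h.sv.n_mem]; group
      _ = p 4 * u := by rw [z3, h.sv.an, mul_one]
  rcases hT hττ with h7 | h7
  · rw [h6] at h7
    exact h.ne 4 (mul_right_cancel (h7.trans (one_mul u).symm))
  · rw [h6] at h7
    have h8 := mul_right_cancel h7
    exact h.sv.p_notin 4 (h8 ▸ h.v_mem)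

/-- `x u x⁻¹ ∈ Ω₁Z(S) u` for `x ∈ S` -/
theorem S_u {x : G} (hx : x ∈ (S : Subgroup G)) : x * (r * bf p * r⁻¹) * x⁻¹ * (r * bf p * r⁻¹) ∈ zc (S : Subgroup G) := by
  obtain ⟨τ, hτS, hτ⟩ := h.sv.tau
  have hb := h.b_mem hτS hτ
  have hu := h.u_sq
  have hT := fun {t : G} (ht : t ∈ TT (S : Subgroup G) p) => h.T_u ht
  have hvS := fun {x : G} (hx : x ∈ (S : Subgroup G)) => h.v_S hx
  revert hb hu hT
  generalize r * bf p * r⁻¹ = u
  intro hb hu hT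
  have hT' : ∀ t ∈ TT (S : Subgroup G) p, t * u * t⁻¹ * u ∈ zc (S : Subgroup G) := by
    intro t ht
    rcases hT ht with h1 | h1
    · rw [h1, hu]; exact one_mem _
    · rw [h1, mul_assoc, hu, mul_one]; exact h.v0 h.v_mem
  by_cases hxT : x ∈ TT (S : Subgroup G) p
  · exact hT' x hxT
  · have hτT : τ ∉ TT (S : Subgroup G) p := h.sv.tau_notin (τ_n hτ)
    have ht := h.sv.two_T hτS hx hτT hxT
    have h2 := hT' _ ht
    obtain ⟨t, ht1⟩ : ∃ t, t = τ⁻¹ * x := ⟨_, rfl⟩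
    have hxt : x = τ * t := by rw [ht1]; group
    rw [← ht1] at h2
    have h3 : x * u * x⁻¹ * u = (τ * (t * u * t⁻¹ * u) * τ⁻¹) * (τ * u * τ⁻¹ * u) := by
      have h4 : (τ * (t * u * t⁻¹ * u) * τ⁻¹) * (τ * u * τ⁻¹ * u) = τ * (t * u * t⁻¹ * (u * u)) * τ⁻¹ * u := by group
      rw [h4, hu, mul_one, hxt]
      group
    rw [h3, comm_iff.2 ((mem_zc.1 h2).2.1 τ hτS)]
    exact mul_mem h2 hb

/-- `V_s` -/
def Vs : Subgroup G :=
  dbl (zc (S : Subgroup G)) (r * bf p * r⁻¹) h.u_sq fun _ hz => h.u_comm (h.sv.zc_le_zcT hz)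

theorem mem_Vs {x : G} : x ∈ h.Vs ↔ x ∈ zc (S : Subgroup G) ∨ x * (r * bf p * r⁻¹) ∈ zc (S : Subgroup G) := Iff.rfl

theorem Vs_S : (S : Subgroup G) ≤ normalizer (h.Vs : Set G) := by
  refine le_normalizer_of fun x hx y hy => ?_
  rcases h.mem_Vs.1 hy with hy | hy
  · rw [comm_iff.2 ((mem_zc.1 hy).2.1 x hx)]
    exact h.mem_Vs.2 (Or.inl hy)
  · refine h.mem_Vs.2 (Or.inr ?_)
    have hu := h.u_sq
    have h1 := h.S_u hx
    revert hy hu h1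
    generalize r * bf p * r⁻¹ = u
    intro hy hu h1
    have h2 : x * y * x⁻¹ * u = (x * (y * u) * x⁻¹) * (x * u * x⁻¹ * u) := by
      have h3 : (x * (y * u) * x⁻¹) * (x * u * x⁻¹ * u) = x * (y * (u * u)) * x⁻¹ * u := by group
      rw [h3, hu, mul_one]
    rw [h2, comm_iff.2 ((mem_zc.1 hy).2.1 x hx)]
    exact mul_mem hy h1

/-- elements of `C_P(n)` preserve `{p 0, p 1}` -/
theorem qs {l : G} (hl : l ∈ P) (hn : l * nn p * l⁻¹ = nn p) :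
    ∃ σ, Mod.Qs σ ∧ ∀ i, l * p i * l⁻¹ = p (σ i) := by
  obtain ⟨σ, hσ⟩ := h.perm l hl
  refine ⟨σ, ?_, hσ⟩
  rw [nn, cm, hσ, hσ] at hn
  exact h.pair_inj (fun e1 => absurd (σ.injective e1) (by decide)) (by decide) hn

theorem pbf : p 4 * bf p = p 2 := by
  rw [bf, h.comm 2 4, ← mul_assoc, h.sq, one_mul]

theorem pabf : p 4 * (aa p * bf p) = p 3 := by
  rw [h.abf, h.comm 3 4, ← mul_assoc, h.sq, one_mul]

/-- the action of `C_P(n)` on `b₀` and `p 4` -/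
theorem L_act {l : G} (hl : l ∈ P) (hn : l * nn p * l⁻¹ = nn p) :
    (l * bf p * l⁻¹ = bf p ∨ l * bf p * l⁻¹ = aa p ∨ l * bf p * l⁻¹ = aa p * bf p) ∧
      (l * p 4 * l⁻¹ = p 4 ∨ l * p 4 * l⁻¹ = p 4 * bf p ∨ l * p 4 * l⁻¹ = p 4 * (aa p * bf p)) := by
  obtain ⟨σ, hσ, h1⟩ := h.qs hl hn
  rw [h.pbf, h.pabf, h.abf, bf, cm, h1, h1]
  rcases qs_cases σ hσ with ⟨e1, e2⟩ | ⟨e1, e2⟩ | ⟨e1, e2⟩ | ⟨e1, e2⟩ | ⟨e1, e2⟩ | ⟨e1, e2⟩ <;> rw [e1, e2]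
  · exact ⟨Or.inl rfl, Or.inl rfl⟩
  · exact ⟨Or.inr (Or.inr rfl), Or.inl rfl⟩
  · exact ⟨Or.inr (Or.inl rfl), Or.inr (Or.inr rfl)⟩
  · exact ⟨Or.inr (Or.inr (h.comm 4 3)), Or.inr (Or.inr rfl)⟩
  · exact ⟨Or.inr (Or.inl (h.comm 3 2)), Or.inr (Or.inl rfl)⟩
  · exact ⟨Or.inl (h.comm 4 2), Or.inr (Or.inl rfl)⟩

theorem v_Vs : v ∈ h.Vs := h.mem_Vs.2 (Or.inl (h.v0 h.v_mem))

theorem u_Vs : r * bf p * r⁻¹ ∈ h.Vs := h.mem_Vs.2 (Or.inr (by rw [h.u_sq]; exact one_mem _))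

theorem zc_Vs {z : G} (hz : z ∈ zc (S : Subgroup G)) : z ∈ h.Vs := h.mem_Vs.2 (Or.inl hz)

/-- `V_s` is normalised by `r l r⁻¹`, `l ∈ C_P(n)` -/
theorem Vs_L {l : G} (hl : l ∈ P) (hn : l * nn p * l⁻¹ = nn p) {y : G} (hy : y ∈ h.Vs) :
    r * l * r⁻¹ * y * (r * l * r⁻¹)⁻¹ ∈ h.Vs := by
  obtain ⟨a1, a2⟩ := h.L_act hl hn
  -- the action on `u`
  have hu : r * l * r⁻¹ * (r * bf p * r⁻¹) * (r * l * r⁻¹)⁻¹ ∈ h.Vs := by
    have h1 : r * l * r⁻¹ * (r * bf p * r⁻¹) * (r * l * r⁻¹)⁻¹ = r * (l * bf p * l⁻¹) * r⁻¹ := by group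
    rw [h1]
    rcases a1 with e1 | e1 | e1
    · rw [e1]; exact h.u_Vs
    · rw [e1, h.r_a]; exact h.v_Vs
    · rw [e1, cm, h.r_a]; exact mul_mem h.v_Vs h.u_Vs
  -- the action on `Ω₁Z(S)`
  have hz : ∀ z ∈ zc (S : Subgroup G), r * l * r⁻¹ * z * (r * l * r⁻¹)⁻¹ ∈ h.Vs := by
    intro z hz
    have h1 : r * l * r⁻¹ * z * (r * l * r⁻¹)⁻¹ = r * (l * (r⁻¹ * z * r) * l⁻¹) * r⁻¹ := by group
    have h2 : ∀ f ∈ zc (TT (S : Subgroup G) p), ∀ c : G, f = r⁻¹ * z * r → l * f * l⁻¹ = f * c → r * c * r⁻¹ ∈ h.Vs →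
        r * (l * (r⁻¹ * z * r) * l⁻¹) * r⁻¹ ∈ h.Vs := by
      intro f _ c e1 e2 h3
      rw [← e1, e2, cm]
      refine mul_mem ?_ h3
      have h4 : r * f * r⁻¹ = z := by rw [e1]; group
      rw [h4]
      exact h.zc_Vs hz
    have h3 : ∀ z' ∈ zc (S : Subgroup G), ∃ c : G, l * z' * l⁻¹ = z' * c ∧ r * c * r⁻¹ ∈ h.Vs := by
      intro z' hz'
      rcases h.zc4 z' hz' with h4 | h4
      · exact ⟨1, by rw [h.cen _ h4 l hl, mul_one], by rw [mul_one, mul_inv_cancel]; exact one_mem _⟩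
      · have h5 : z' = z' * p 4 * p 4 := by rw [mul_assoc, h.sq, mul_one]
        have h6 := h.cen _ h4 l hl
        rcases a2 with e1 | e1 | e1
        · refine ⟨1, ?_, by rw [mul_one, mul_inv_cancel]; exact one_mem _⟩
          conv_lhs => rw [h5]
          rw [cm, h6, e1, ← h5, mul_one]
        · refine ⟨bf p, ?_, h.u_Vs⟩
          conv_lhs => rw [h5]
          rw [cm, h6, e1, ← mul_assoc, ← h5]
        · refine ⟨aa p * bf p, ?_, ?_⟩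
          · conv_lhs => rw [h5]
            rw [cm, h6, e1, ← mul_assoc, ← h5]
          · rw [cm, h.r_a]
            exact mul_mem h.v_Vs h.u_Vs
    rw [h1]
    have h4 := h.r_zc' (h.sv.zc_le_zcT hz)
    rcases h.sv.mem_zcT h.char2 S h4 with h5 | h5
    · obtain ⟨c, h6, h7⟩ := h3 _ h5
      exact h2 _ h4 c rfl h6 h7
    · obtain ⟨c, h6, h7⟩ := h3 _ h5
      refine h2 _ h4 c rfl ?_ h7
      rw [cm l (nn p), hn] at h6
      rw [mul_assoc (nn p)] at h6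
      exact mul_left_cancel h6
  rcases h.mem_Vs.1 hy with hy | hy
  · exact hz y hy
  · have h1 : y = y * (r * bf p * r⁻¹) * (r * bf p * r⁻¹) := by rw [mul_assoc y, h.u_sq, mul_one]
    rw [h1, cm]
    exact mul_mem (hz _ hy) hu

theorem Hs_Vs : Hs S P p r ≤ normalizer (h.Vs : Set G) := by
  refine sup_le h.Vs_S (le_normalizer_of fun x hx y hy => ?_)
  obtain ⟨h1, h2⟩ := mem_inf.1 (mem_csmul.1 hx)
  have h3 : r * (r⁻¹ * x * r) * r⁻¹ = x := by group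
  have h4 := h.Vs_L h1 (mem_cent.1 h2) hy
  rwa [h3] at h4

theorem Hs_s : Hs S P p r ≤ centralizer {p 4} := by
  refine sup_le (fun x hx => mem_cent.2 (h.sv.fix hx)) fun x hx => mem_cent.2 ?_
  obtain ⟨h1, h2⟩ := mem_inf.1 (mem_csmul.1 hx)
  have h3 : r * (nn p * v) * r⁻¹ = p 4 := by rw [cm, h.r_n, h.r_v, h.sv.na]
  have h4 : r⁻¹ * x * r * (nn p * v) * (r⁻¹ * x * r)⁻¹ = nn p * v := by
    rw [cm, mem_cent.1 h2, h.cen v h.v_mem _ h1]
  calc x * p 4 * x⁻¹ = x * (r * (nn p * v) * r⁻¹) * x⁻¹ := by rw [h3]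
    _ = r * (r⁻¹ * x * r * (nn p * v) * (r⁻¹ * x * r)⁻¹) * r⁻¹ := by group
    _ = p 4 := by rw [h4, h3]

theorem Hs_not : ¬ Hs S P p r ≤ normalizer (zc (S : Subgroup G) : Set G) := by
  intro h0
  obtain ⟨l, hl, h1⟩ := h.full (Equiv.swap 3 4)
  have h2 : l * nn p * l⁻¹ = nn p := by
    rw [nn, cm, h1, h1]; rfl
  have h3 : l * aa p * l⁻¹ = bf p := by
    rw [aa, cm, h1, h1]; rfl
  have h4 : r * l * r⁻¹ ∈ Hs S P p r :=
    (le_sup_right : MulAut.conj r • (P ⊓ centralizer {nn p}) ≤ Hs S P p r)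
      (csmul_mem (mem_inf.2 ⟨hl, mem_cent.2 h2⟩))
  have h5 := (mem_normalizer_iff.1 (h0 h4) v).1 (h.v0 h.v_mem)
  have h6 : r * l * r⁻¹ * v * (r * l * r⁻¹)⁻¹ = r * bf p * r⁻¹ := by
    calc r * l * r⁻¹ * v * (r * l * r⁻¹)⁻¹ = r * (l * (r⁻¹ * v * r) * l⁻¹) * r⁻¹ := by group
      _ = r * bf p * r⁻¹ := by rw [h.r_v_inv, h3]
  rw [h6] at h5
  exact h.u_notin h5

/-- (4) : the natural member `R` -/
theorem exists_R : ∃ R : Subgroup G, IsParS (S : Subgroup G) R ∧ zl (S : Subgroup G) R = h.Vs ∧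
    cv (S : Subgroup G) R ≠ ⊥ := by
  have hS4 : (S : Subgroup G) ≤ centralizer {p 4} := fun x hx => mem_cent.2 (h.sv.fix hx)
  have h4sq : p 4 ^ 2 = 1 := by rw [sq]; exact h.sq 4
  have hloc : IsLoc (S : Subgroup G) (Hs S P p r) :=
    (MinPar.isLoc_centralizer S h4sq (h.ne 4) hS4).of_le S le_sup_left h.Hs_s
  obtain ⟨R, hR, hRH, hRn⟩ := hloc.exists_not_le (M := normalizer (zc (S : Subgroup G) : Set G)) S
    (inf_le_right.trans (normalizer_le_normalizer_zc _)) h.Hs_not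
  have hRS : IsParS (S : Subgroup G) R := ⟨hR, hRn⟩
  have h1 : zl (S : Subgroup G) R = h.Vs := by
    refine dbl_eq_of_lt (zc_le_zl _ _) (zl_le le_dbl (hRH.trans h.Hs_Vs)) fun h2 => hRn ?_
    rw [← h2]
    exact le_normalizer_zl _ _
  refine ⟨R, hRS, h1, fun h2 => h.ne 4 ?_⟩
  have h3 : p 4 ∈ cv (S : Subgroup G) R := by
    refine mem_inf.2 ⟨zc_le_zl _ _ h.sv.s_mem, ?_⟩
    have h4 : oddGen R ≤ centralizer {p 4} := (oddGen_le R).trans (hRH.trans h.Hs_s)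
    exact mem_centralizer_iff.2 fun x hx => comm_iff.1 (mem_cent.1 (h4 hx))
  rw [h2] at h3
  exact mem_bot.1 h3

/-! ### (5) -/

theorem n_p {i : Fin 5} (hi : i = 2 ∨ i = 3 ∨ i = 4) (j : Fin 5) : nn p * p i ≠ p j := by
  intro h1
  have h2 : p i * p j = p 0 * p 1 := by
    rw [← h1, h.sv.pcomm, ← mul_assoc, h.sq, one_mul]
  have hij : i ≠ j := by
    rintro rfl
    exact h.sv.n_ne_one (by rw [nn, ← h2, h.sq])
  rcases h.pair_inj hij (show (0 : Fin 5) ≠ 1 by decide) h2 with ⟨e1, -⟩ | ⟨e1, -⟩ <;>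
    rcases hi with rfl | rfl | rfl <;> exact absurd e1 (by decide)

/-- an element of `O₂(C(n))` is in `D` or in `e D` -/
theorem Q_D {q : G} (hq : q ∈ o2 (centralizer {nn p})) : q ∈ o2 P ∨ e⁻¹ * q ∈ o2 P := by
  obtain ⟨d, hd, h1⟩ := h.rs (h.Q_T hq)
  refine h.D_or (h.Q_T hq) ?_
  rcases h.Q_V q hq _ (h.pV 2) with h2 | h2
  · exact h2
  · rw [h1] at h2
    exact absurd h2.symm (h.n_p (Or.inl rfl) _)

theorem c_V : p 0 * p 4 ∈ zl (S : Subgroup G) P := mul_mem (h.pV 0) (h.pV 4)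

theorem e_c : e * (p 0 * p 4) * e⁻¹ = nn p * (p 0 * p 4) := by
  rw [cm, h.e_p, h.e_p]
  change p 1 * p 4 = _
  rw [nn, h.comm 0 1, mul_assoc, ← mul_assoc (p 0), h.sq, one_mul]

theorem n_sq_V {x : G} (hx : x ∈ zl (S : Subgroup G) P) : nn p * x = x * nn p :=
  (mem_zc.1 (h.V_zcD hx)).2.1 _ (zc_le _ (h.V_zcD h.sv.n_V))

theorem cen_Q {x : G} (hx : x ∈ zl (S : Subgroup G) P) :
    (∀ q ∈ o2 (centralizer {nn p}), q * x = x * q) ∨
      ∀ q ∈ o2 (centralizer {nn p}), q * (x * (p 0 * p 4)) = x * (p 0 * p 4) * q := by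
  have key : ∀ y ∈ zl (S : Subgroup G) P, e * y * e⁻¹ = y → ∀ q ∈ o2 (centralizer {nn p}), q * y = y * q := by
    intro y hy h1 q hq
    rw [← comm_iff]
    rcases h.Q_D hq with h2 | h2
    · exact h.D_V h2 hy
    · have h3 := h.D_V h2 hy
      calc q * y * q⁻¹ = e * (e⁻¹ * q * y * (e⁻¹ * q)⁻¹) * e⁻¹ := by group
        _ = y := by rw [h3, h1]
  rcases h.Q_V e h.e_mem x hx with h1 | h1
  · exact Or.inl (key x hx h1)
  · refine Or.inr (key _ (mul_mem hx h.c_V) ?_)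
    rw [cm, h1, h.e_c]
    calc nn p * x * (nn p * (p 0 * p 4)) = x * (nn p * nn p) * (p 0 * p 4) := by rw [h.n_sq_V hx]; group
      _ = x * (p 0 * p 4) := by rw [h.sv.nsq, mul_one]

/-- (4), (5) : the configuration `Ex` -/
theorem exists_ex : ∃ R k, Ex S P p R k := by
  obtain ⟨R, hR, hV, hcv⟩ := h.exists_R
  obtain ⟨τ, hτS, hτ⟩ := h.sv.tau
  have hkv : τ * r * v * (τ * r)⁻¹ = nn p := by
    rw [← cc, h.r_v, τ_a hτ]
  have hSv : (S : Subgroup G) ≤ centralizer {v} := fun x hx => mem_cent.2 (h.v_S hx)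
  have hQS : ∀ q ∈ o2 (centralizer {nn p}), (τ * r)⁻¹ * q * (τ * r) ∈ (S : Subgroup G) := by
    intro q hq
    exact o2_le_of_sylow S.isPGroup' (MinSimple.Basic.not_dvd_relIndex S hSv) (o2_cent_conj' hkv hq)
  -- the image of `u`
  have hu : τ * r * (r * bf p * r⁻¹) * (τ * r)⁻¹ = p 0 * p 4 ∨
      τ * r * (r * bf p * r⁻¹) * (τ * r)⁻¹ = nn p * (p 0 * p 4) := by
    have h1 : τ * r * (r * bf p * r⁻¹) * (τ * r)⁻¹ = τ * ((r * r) * bf p * (r * r)⁻¹) * τ⁻¹ := by group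
    have h2 : τ * bf p * τ⁻¹ = p 0 * p 4 := by
      rw [bf, cm, hτ, hτ]; rfl
    rw [h1]
    rcases h.T_bf' h.r_sq with h3 | h3
    · left; rw [h3, h2]
    · right; rw [h3, cm, h2, τ_a hτ]
  have hcQ : p 0 * p 4 ∈ o2 (centralizer {nn p}) := h.V_Q h.c_V
  have hnQ : nn p ∈ o2 (centralizer {nn p}) := h.V_Q h.sv.n_V
  have huQ : τ * r * (r * bf p * r⁻¹) * (τ * r)⁻¹ ∈ o2 (centralizer {nn p}) := by
    rcases hu with h1 | h1
    · rw [h1]; exact hcQ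
    · rw [h1]; exact mul_mem hnQ hcQ
  have hZ : ∀ z ∈ zc (S : Subgroup G), τ * r * z * (τ * r)⁻¹ ∈ o2 (centralizer {nn p}) := by
    intro z hz
    have h1 : ∀ x ∈ (S : Subgroup G), x * z = z * x := (mem_zc.1 hz).2.1
    have h2 := h1 _ (h.sv.v0_S h.v_mem)
    refine MinSimple.Basic.char2_centralizer h.char2 (by rw [sq]; exact h.sv.nsq) h.sv.n_ne_one (mem_inf.2 ⟨mem_cent.2 ?_, ?_⟩)
    · rw [← hkv]
      calc τ * r * z * (τ * r)⁻¹ * (τ * r * v * (τ * r)⁻¹) * (τ * r * z * (τ * r)⁻¹)⁻¹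
          = τ * r * ((z * v) * z⁻¹) * (τ * r)⁻¹ := by group
        _ = τ * r * v * (τ * r)⁻¹ := by rw [← h2]; group
    · refine mem_centralizer_iff.2 fun q hq => ?_
      have h3 := h1 _ (hQS q hq)
      calc q * (τ * r * z * (τ * r)⁻¹) = τ * r * ((τ * r)⁻¹ * q * (τ * r) * z) * (τ * r)⁻¹ := by group
        _ = τ * r * (z * ((τ * r)⁻¹ * q * (τ * r))) * (τ * r)⁻¹ := by rw [h3]
        _ = τ * r * z * (τ * r)⁻¹ * q := by group
  refine ⟨R, τ * r, hR, ?_, hcv, ?_, hQS, ?_, fun x hx => h.cen_Q hx, h.V_Q, h.c_V⟩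
  · rw [hV]
    exact card_dbl h.u_notin
  · rw [hV]
    intro x hx
    rcases h.mem_Vs.1 hx with hx | hx
    · exact hZ x hx
    · have h1 : x = x * (r * bf p * r⁻¹) * (r * bf p * r⁻¹) := by rw [mul_assoc x, h.u_sq, mul_one]
      rw [h1, cm]
      exact mul_mem (hZ _ hx) huQ
  · rw [hV]
    rcases hu with h1 | h1
    · rw [← h1, ci]
      exact h.u_Vs
    · have h2 : p 0 * p 4 = nn p * (τ * r * (r * bf p * r⁻¹) * (τ * r)⁻¹) := by
        rw [h1, ← mul_assoc, h.sv.nsq, one_mul]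
      have h3 : (τ * r)⁻¹ * (p 0 * p 4) * (τ * r) = v * (r * bf p * r⁻¹) := by
        rw [h2, ← hkv]
        group
      rw [h3]
      exact mul_mem h.v_Vs h.u_Vs

end Out

/-! ### Mutual pairs -/

namespace Ex

variable [Finite G] {S : Sylow 2 G} {P R : Subgroup G} {p : Fin 5 → G} {k : G} (E : Ex S P p R k)
include E

/-- `V_R^k` and a subgroup `W ≤ O₂(C(n))` normalised by `O₂(C(n))` -/
theorem conj_norm {W : Subgroup G} {x : G}
    (hW : MulAut.conj x • W ≤ o2 (centralizer {nn p})) (hn : ∀ q ∈ o2 (centralizer {nn p}), x⁻¹ * q * x ∈ normalizer (W : Set G)) :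
    zl (S : Subgroup G) R ≤ normalizer ((MulAut.conj (k⁻¹ * x) • W : Subgroup G) : Set G) ∧
      MulAut.conj (k⁻¹ * x) • W ≤ normalizer (zl (S : Subgroup G) R : Set G) := by
  have hkR : ∀ q ∈ o2 (centralizer {nn p}), k⁻¹ * q * k ∈ normalizer (zl (S : Subgroup G) R : Set G) := fun q hq =>
    le_normalizer_zl _ _ (E.star.le (E.QS q hq))
  refine ⟨le_normalizer_of fun y hy z hz => ?_, fun z hz => ?_⟩
  · rw [mem_csmul] at hz ⊢
    have h1 := hn _ (E.VQ y hy)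
    have h2 := (mem_normalizer_iff.1 h1 _).1 hz
    have h3 : (k⁻¹ * x)⁻¹ * (y * z * y⁻¹) * (k⁻¹ * x) =
        x⁻¹ * (k * y * k⁻¹) * x * ((k⁻¹ * x)⁻¹ * z * (k⁻¹ * x)) * (x⁻¹ * (k * y * k⁻¹) * x)⁻¹ := by group
    rwa [h3]
  · rw [mem_csmul] at hz
    have h1 : k * z * k⁻¹ ∈ o2 (centralizer {nn p}) := by
      apply hW
      rw [mem_csmul]
      have h2 : x⁻¹ * (k * z * k⁻¹) * x = (k⁻¹ * x)⁻¹ * z * (k⁻¹ * x) := by group
      rwa [h2]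
    have h2 := hkR _ h1
    have h3 : k⁻¹ * (k * z * k⁻¹) * k = z := by group
    rwa [h3] at h2

/-- natural partner -/
theorem nat {P₂ : Subgroup G} {y : G} (hP₂ : IsParS (S : Subgroup G) P₂)
    (hV : MulAut.conj y • zl (S : Subgroup G) P₂ ≤ o2 (centralizer {nn p}))
    (hn : y⁻¹ * nn p * y ∈ zc (S : Subgroup G))
    (hne : ⁅zl (S : Subgroup G) P, MulAut.conj y • zl (S : Subgroup G) P₂⁆ ≠ ⊥) :
    Mutual (S : Subgroup G) R P₂ (k⁻¹ * y) := by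
  obtain ⟨-, hn2, -⟩ := mem_zc.1 hn
  have hSn : (S : Subgroup G) ≤ centralizer {y⁻¹ * nn p * y} := fun x hx => mem_cent.2 (comm_iff.2 (hn2 x hx))
  have hyn : y * (y⁻¹ * nn p * y) * y⁻¹ = nn p := by group
  have h1 : ∀ q ∈ o2 (centralizer {nn p}), y⁻¹ * q * y ∈ (S : Subgroup G) := fun q hq =>
    o2_le_of_sylow S.isPGroup' (MinSimple.Basic.not_dvd_relIndex S hSn) (o2_cent_conj' hyn hq)
  obtain ⟨h2, h3⟩ := E.conj_norm hV fun q hq => le_normalizer_zl _ _ (hP₂.le (h1 q hq))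
  refine ⟨E.star, hP₂, h2, h3, fun h4 => hne ?_⟩
  rw [commutator_eq_bot_iff_le_centralizer] at h4 ⊢
  -- `c` commutes with `V'`
  have hc : ∀ z ∈ MulAut.conj y • zl (S : Subgroup G) P₂, z * (p 0 * p 4) = p 0 * p 4 * z := by
    intro z hz
    have h5 : k⁻¹ * z * k ∈ MulAut.conj (k⁻¹ * y) • zl (S : Subgroup G) P₂ := by
      rw [mem_csmul] at hz ⊢
      have h6 : (k⁻¹ * y)⁻¹ * (k⁻¹ * z * k) * (k⁻¹ * y) = y⁻¹ * z * y := by group
      rwa [h6]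
    have h6 := mem_centralizer_iff.1 (h4 E.c_mem) _ h5
    calc z * (p 0 * p 4) = k * (k⁻¹ * z * k * (k⁻¹ * (p 0 * p 4) * k)) * k⁻¹ := by group
      _ = k * (k⁻¹ * (p 0 * p 4) * k * (k⁻¹ * z * k)) * k⁻¹ := by rw [h6]
      _ = p 0 * p 4 * z := by group
  intro x hx
  refine mem_centralizer_iff.2 fun z hz => ?_
  rcases E.cen x hx with h5 | h5
  · exact h5 z (hV hz)
  · have h6 := h5 z (hV hz)
    have h7 := hc z hz
    have h8 : z * x * (p 0 * p 4) = x * z * (p 0 * p 4) := by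
      calc z * x * (p 0 * p 4) = z * (x * (p 0 * p 4)) := by group
        _ = x * (p 0 * p 4 * z) := by rw [h6]; group
        _ = x * z * (p 0 * p 4) := by rw [← h7]; group
    exact mul_right_cancel h8

theorem nonFree_nat {P₂ : Subgroup G} {y : G} (hP₂ : IsParS (S : Subgroup G) P₂)
    (hV : MulAut.conj y • zl (S : Subgroup G) P₂ ≤ o2 (centralizer {nn p}))
    (hn : y⁻¹ * nn p * y ∈ zc (S : Subgroup G))
    (hne : ⁅zl (S : Subgroup G) P, MulAut.conj y • zl (S : Subgroup G) P₂⁆ ≠ ⊥)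
    (hcv : cv (S : Subgroup G) P₂ ≠ ⊥) :
    NonFree (S : Subgroup G) R P₂ (k⁻¹ * y) := ⟨E.nat hP₂ hV hn hne, E.ne, hcv⟩

/-- T-partner -/
theorem tt {P₂ R₂ : Subgroup G} {p₂ : Fin 5 → G} {k₂ y : G} (E₂ : Ex S P₂ p₂ R₂ k₂)
    (hy : y * nn p₂ * y⁻¹ = nn p)
    (hne : ⁅zl (S : Subgroup G) P, MulAut.conj y • zl (S : Subgroup G) P₂⁆ ≠ ⊥) :
    Mutual (S : Subgroup G) R R₂ (k⁻¹ * y * k₂) := by
  have hQ : ∀ q ∈ o2 (centralizer {nn p₂}), y * q * y⁻¹ ∈ o2 (centralizer {nn p}) := fun q hq => o2_cent_conj hy hq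
  have hQ' : ∀ q ∈ o2 (centralizer {nn p}), y⁻¹ * q * y ∈ o2 (centralizer {nn p₂}) := fun q hq => o2_cent_conj' hy hq
  have h0 : MulAut.conj (y * k₂) • zl (S : Subgroup G) R₂ ≤ o2 (centralizer {nn p}) := by
    intro z hz
    rw [mem_csmul] at hz
    have h1 := hQ _ (E₂.VQ _ hz)
    have h2 : y * (k₂ * ((y * k₂)⁻¹ * z * (y * k₂)) * k₂⁻¹) * y⁻¹ = z := by group
    rwa [h2] at h1
  obtain ⟨h2, h3⟩ := E.conj_norm (x := y * k₂) h0 fun q hq => by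
    have h4 := le_normalizer_zl (S : Subgroup G) R₂ (E₂.star.le (E₂.QS _ (hQ' q hq)))
    have h5 : k₂⁻¹ * (y⁻¹ * q * y) * k₂ = (y * k₂)⁻¹ * q * (y * k₂) := by group
    rwa [h5] at h4
  rw [← mul_assoc] at h2 h3
  refine ⟨E.star, E₂.star, h2, h3, fun h4 => hne ?_⟩
  rw [commutator_eq_bot_iff_le_centralizer] at h4 ⊢
  -- `c` and `c'` commute
  have hcc : y * (p₂ 0 * p₂ 4) * y⁻¹ * (p 0 * p 4) = p 0 * p 4 * (y * (p₂ 0 * p₂ 4) * y⁻¹) := by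
    have h5 : k⁻¹ * (y * (p₂ 0 * p₂ 4) * y⁻¹) * k ∈ MulAut.conj (k⁻¹ * y * k₂) • zl (S : Subgroup G) R₂ := by
      rw [mem_csmul]
      have h6 : (k⁻¹ * y * k₂)⁻¹ * (k⁻¹ * (y * (p₂ 0 * p₂ 4) * y⁻¹) * k) * (k⁻¹ * y * k₂) =
        k₂⁻¹ * (p₂ 0 * p₂ 4) * k₂ := by group
      rw [h6]
      exact E₂.c_mem
    have h6 := mem_centralizer_iff.1 (h4 E.c_mem) _ h5
    generalize p 0 * p 4 = c at h6 ⊢
    generalize y * (p₂ 0 * p₂ 4) * y⁻¹ = c' at h6 ⊢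
    calc c' * c = k * (k⁻¹ * c' * k * (k⁻¹ * c * k)) * k⁻¹ := by group
      _ = k * (k⁻¹ * c * k * (k⁻¹ * c' * k)) * k⁻¹ := by rw [h6]
      _ = c * c' := by group
  intro x hx
  refine mem_centralizer_iff.2 fun z hz => ?_
  replace hz : z ∈ MulAut.conj y • zl (S : Subgroup G) P₂ := hz
  rw [mem_csmul] at hz
  obtain ⟨x', hx', hzx⟩ : ∃ x' ∈ zl (S : Subgroup G) P₂, z = y * x' * y⁻¹ := ⟨_, hz, by group⟩
  have hzQ : z ∈ o2 (centralizer {nn p}) := by rw [hzx]; exact hQ _ (E₂.V_Q hx')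
  have hxQ : x ∈ o2 (centralizer {nn p}) := E.V_Q hx
  have hcQ : p 0 * p 4 ∈ o2 (centralizer {nn p}) := E.V_Q E.c_V
  have hcQ' : y * (p₂ 0 * p₂ 4) * y⁻¹ ∈ o2 (centralizer {nn p}) := hQ _ (E₂.V_Q E₂.c_V)
  -- the centraliser statement for `V'`
  have hcen : (∀ q ∈ o2 (centralizer {nn p}), q * z = z * q) ∨
      ∀ q ∈ o2 (centralizer {nn p}), q * (z * (y * (p₂ 0 * p₂ 4) * y⁻¹)) = z * (y * (p₂ 0 * p₂ 4) * y⁻¹) * q := by
    have key : ∀ x' q : G, (y⁻¹ * q * y) * x' = x' * (y⁻¹ * q * y) → q * (y * x' * y⁻¹) = y * x' * y⁻¹ * q := by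
      intro x' q h5
      calc q * (y * x' * y⁻¹) = y * ((y⁻¹ * q * y) * x') * y⁻¹ := by group
        _ = y * (x' * (y⁻¹ * q * y)) * y⁻¹ := by rw [h5]
        _ = y * x' * y⁻¹ * q := by group
    rcases E₂.cen x' hx' with h5 | h5
    · left
      intro q hq
      rw [hzx]
      exact key _ _ (h5 _ (hQ' q hq))
    · right
      intro q hq
      rw [hzx, ← cm]
      exact key _ _ (h5 _ (hQ' q hq))
  revert hcc hcQ' hcen
  generalize y * (p₂ 0 * p₂ 4) * y⁻¹ = c'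
  have hcx := E.cen x hx
  revert hcQ hcx
  generalize p 0 * p 4 = c
  intro hcQ hcx hcc hcQ' hcen
  rcases hcx with h5 | h5
  · exact h5 z hzQ
  rcases hcen with h6 | h6
  · exact (h6 x hxQ).symm
  -- `z` commutes with `c`
  have h7 : c * z = z * c := by
    have h8 := h6 c hcQ
    have h9 : c * z * c' = z * c * c' := by
      calc c * z * c' = c * (z * c') := by group
        _ = z * (c' * c) := by rw [h8]; group
        _ = z * c * c' := by rw [hcc]; group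
    exact mul_right_cancel h9
  have h8 := h5 z hzQ
  have h9 : z * x * c = x * z * c := by
    calc z * x * c = z * (x * c) := by group
      _ = x * (c * z) := by rw [h8]; group
      _ = x * z * c := by rw [h7]; group
  exact mul_right_cancel h9

theorem nonFree_tt {P₂ R₂ : Subgroup G} {p₂ : Fin 5 → G} {k₂ y : G} (E₂ : Ex S P₂ p₂ R₂ k₂)
    (hy : y * nn p₂ * y⁻¹ = nn p)
    (hne : ⁅zl (S : Subgroup G) P, MulAut.conj y • zl (S : Subgroup G) P₂⁆ ≠ ⊥) :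
    NonFree (S : Subgroup G) R R₂ (k⁻¹ * y * k₂) := ⟨E.tt E₂ hy hne, E.ne, E₂.ne⟩

end Ex

end Cfsg.Agent.Omega.F4Leaf.Cen

end

section


/-!
# LeafF4, `m = 2`, `n` 2-central (bb OMEGA #18108): the mutual pairs of natural members from `NatSide`, `TTSide`

* `NatSide.exists_pair` : a natural member `R` over `S` with `|V_R| = 2 |Ω₁Z(S)|`, `C_{V_R}(O²(R)) ≠ 1` and a mutual pair
  `(R, P₂)`;
* `TTSide.exists_pair` : a mutual pair `(R, R₂)` of two such members.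
-/

set_option autoImplicit false

namespace Cfsg.Agent.Omega.F4Leaf.Cen

open Subgroup Pointwise Cfsg Cfsg.Agent.MinSimple.VModule
open Cfsg.Agent.ZN (zc zl o2)
open Cfsg.Agent.ZN.ChoiceBase (cj)
open Cfsg.Agent.Omega.MinPar (IsPar IsParS IsLoc)
open Cfsg.Agent.Omega.FrameFF (cv)
open Cfsg.Agent.Omega.HOne.Main (NonFree)
open Cfsg.Agent.Omega.NTwo (nn aa cm comm_iff mem_cent mem_csmul csmul_mem)
open scoped commutatorElement

universe u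

variable {G : Type u} [Group G] [Finite G]

theorem cj_eq (y : G) (H : Subgroup G) : cj y H = MulAut.conj y • H := by
  ext x
  rw [ZN.ChoiceBase.mem_cj, mem_csmul]

/-- natural partner -/
theorem NatSide.exists_pair (hG : IsCharacteristicTwoType G) (S : Sylow 2 G) {P P₂ : Subgroup G} {y : G} {p : Fin 5 → G}
    {e : G} (hP₂ : IsParS (S : Subgroup G) P₂) (h : NatSide (S : Subgroup G) P P₂ y p e) :
    ∃ (R : Subgroup G) (x : G), Mutual (S : Subgroup G) R P₂ x ∧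
      Nat.card (zl (S : Subgroup G) R) = 2 * Nat.card (zc (S : Subgroup G)) ∧ cv (S : Subgroup G) R ≠ ⊥ := by
  obtain ⟨r, v, w, o⟩ := V.exists_out hG S h.sv h.ncen h.el
  obtain ⟨R, k, E⟩ := o.exists_ex
  have hWQ := h.W_Q
  rw [cj_eq] at hWQ
  have hn : ∀ q ∈ o2 (centralizer {nn p}), y⁻¹ * q * y ∈ normalizer (zl (S : Subgroup G) P₂ : Set G) := by
    have key : ∀ q ∈ o2 (centralizer {nn p}), ∀ w ∈ zl (S : Subgroup G) P₂,
        (y⁻¹ * q * y) * w * (y⁻¹ * q * y)⁻¹ ∈ zl (S : Subgroup G) P₂ := by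
      intro q hq w hw
      have h1 : y * w * y⁻¹ ∈ cj y (zl (S : Subgroup G) P₂) := by
        rw [cj_eq]
        exact csmul_mem hw
      have h2 : q * (y * w * y⁻¹) * q⁻¹ ∈ cj y (zl (S : Subgroup G) P₂) := by
        rcases h.Q_W q hq _ h1 with h3 | h3
        · rw [h3]; exact h1
        · rw [h3]; exact mul_mem h.n_mem h1
      rw [ZN.ChoiceBase.mem_cj] at h2
      have h3 : y⁻¹ * (q * (y * w * y⁻¹) * q⁻¹) * y = (y⁻¹ * q * y) * w * (y⁻¹ * q * y)⁻¹ := by group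
      rwa [h3] at h2
    intro q hq
    rw [mem_normalizer_iff]
    refine fun w => ⟨key q hq w, fun hw => ?_⟩
    have h1 := key q⁻¹ (inv_mem hq) _ hw
    have h2 : y⁻¹ * q⁻¹ * y * (y⁻¹ * q * y * w * (y⁻¹ * q * y)⁻¹) * (y⁻¹ * q⁻¹ * y)⁻¹ = w := by group
    rwa [h2] at h1
  obtain ⟨h2, h3⟩ := E.conj_norm hWQ hn
  refine ⟨R, k⁻¹ * y, ⟨E.star, hP₂, h2, h3, fun h4 => ?_⟩, E.card, E.ne⟩
  rw [commutator_eq_bot_iff_le_centralizer] at h4
  have h5 : k⁻¹ * e * k ∈ MulAut.conj (k⁻¹ * y) • zl (S : Subgroup G) P₂ := by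
    have h6 := h.e_mem
    rw [ZN.ChoiceBase.mem_cj] at h6
    rw [mem_csmul]
    have h7 : (k⁻¹ * y)⁻¹ * (k⁻¹ * e * k) * (k⁻¹ * y) = y⁻¹ * e * y := by group
    rwa [h7]
  have h6 := mem_centralizer_iff.1 (h4 E.c_mem) _ h5
  have h7 : e * (p 0 * p 4) = p 0 * p 4 * e := by
    calc e * (p 0 * p 4) = k * (k⁻¹ * e * k * (k⁻¹ * (p 0 * p 4) * k)) * k⁻¹ := by group
      _ = k * (k⁻¹ * (p 0 * p 4) * k * (k⁻¹ * e * k)) * k⁻¹ := by rw [h6]
      _ = p 0 * p 4 * e := by group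
  rw [← comm_iff, o.e_c] at h7
  exact h.sv.n_ne_one (mul_right_cancel (h7.trans (one_mul _).symm))

/-- both members of type `S₅` -/
theorem TTSide.exists_pair (hG : IsCharacteristicTwoType G) (S : Sylow 2 G) {P P₂ : Subgroup G} {y : G} {p : Fin 5 → G}
    {e : G} {p₂ : Fin 5 → G} {e₂ : G} (h : TTSide (S : Subgroup G) P P₂ y p e p₂ e₂) :
    ∃ (R R₂ : Subgroup G) (x : G), NonFree (S : Subgroup G) R R₂ x ∧
      Nat.card (zl (S : Subgroup G) R) = 2 * Nat.card (zc (S : Subgroup G)) ∧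
      Nat.card (zl (S : Subgroup G) R₂) = 2 * Nat.card (zc (S : Subgroup G)) := by
  obtain ⟨r, v, w, o⟩ := V.exists_out hG S h.sv h.ncen h.el
  obtain ⟨R, k, E⟩ := o.exists_ex
  obtain ⟨r₂, v₂, w₂, o₂⟩ := V.exists_out hG S h.sv₂ h.ncen₂ h.el₂
  obtain ⟨R₂, k₂, E₂⟩ := o₂.exists_ex
  refine ⟨R, R₂, _, E.nonFree_tt E₂ h.nn₂ fun h4 => h.ne ?_, E.card, E₂.card⟩
  rw [commutator_eq_bot_iff_le_centralizer] at h4
  have h5 := h.e_mem
  rw [cj_eq] at h5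
  exact mem_centralizer_iff.1 (h4 h.e₂_mem) _ h5

end Cfsg.Agent.Omega.F4Leaf.Cen

end
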