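import Cfsg.Agent.Mrg.Omega.S5.Pair
import Cfsg.Agent.Mrg.Omega.F4Leaf.Split
import Cfsg.Agent.Mrg.Omega.F4Leaf.Pos
import Cfsg.Agent.Mrg.Omega.F4Leaf.Cen.Base
import Cfsg.Agent.Mrg.Omega.F4Leaf.Cen.Three
import Cfsg.Agent.Mrg.Omega.F4Leaf.Cen.NN
import Cfsg.Agent.Mrg.Omega.HOne.Cut


/-!
# LeafF4: `m = 2`, `n` 2-central (T-T) and `m = 2`, natural partner: exit into II.0h1, `q = 2` (bb OMEGA #18108)

* `PosExit` : the position `HTwo.Entry.Pos` implies that `G` is known; `posExit_of` : from the open statements of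
  II.0h1 (`HOne.Cut`);
* `cen_known`, `nat_known`; `f4Cen`, `f4Nat` : `F4Cen K`, `F4Nat K` from `PosExit`;
* `leafF4_of` : LeafF4 from `PosExit`, `F4NC`, `F4NatBig`, `F4SymBig`.
-/

set_option autoImplicit false

namespace Cfsg.Agent.Omega.F4Leaf.Cen.Main

open Subgroup Pointwise Cfsg Cfsg.Agent.ZN Cfsg.Agent.ZN.ChoiceBase Cfsg.Agent.Omega.MinPar
open Cfsg.Agent.Omega.Frame Cfsg.Agent.Omega.FFThm
open Cfsg.Agent.Omega.FrameLE (AllIn)
open Cfsg.Agent.Omega.FrameFF (cv Single Free)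
open Cfsg.Agent.Omega.FrameMulti (IsSym IsNat Typed AllTyped NoWr LeafF4)
open Cfsg.Agent.Omega.S5.Def Cfsg.Agent.Omega.S5.Syl Cfsg.Agent.Omega.S5.Pair Cfsg.Agent.Omega.S5.Main
open Cfsg.Agent.Omega.F4Leaf.Def Cfsg.Agent.Omega.F4Leaf.Main

universe u

/-- The exit `Pos` (II.0h1, `q = 2`). -/
def PosExit : Prop :=
  ∀ (G : Type u) [Group G] [Finite G], Ctx G → ∀ (S : Sylow 2 G), Full (S : Subgroup G) →
    AllIn (S : Subgroup G) → ∀ (P V : Subgroup G) (ι : Type u) (R : ι → Subgroup G) (o : ι) (r z : G),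
      HTwo.Entry.Pos S P V R o r z → IsKnownSimple' G

theorem posExit_of (hT : HOne.Cut.TS0.{u, u}) (h3 : HOne.Cut.Three0.{u, u}) (hm : HOne.Cut.More0.{u, u})
    (hE : HOne.Cut.EndL.{u}) : PosExit.{u} :=
  fun _ _ _ hG _ hF hI _ _ _ _ _ _ _ p => HOne.Cut.known_of_pos hT h3 hm hE hG hF hI p

/-- **`F4Cen` with the exit.** -/
theorem cen_known (hX : PosExit.{u}) (G : Type u) [Group G] [Finite G] (hG : Ctx G) (S : Sylow 2 G)
    (hF : Full (S : Subgroup G)) (hI : AllIn (S : Subgroup G)) (hT : AllTyped (S : Subgroup G))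
    (hW : NoWr (S : Subgroup G)) (P₁ P₂ : Subgroup G) (y : G) (A : Subgroup G)
    (ε : (Fin (2 ^ 2 + 1) → ZMod 2) → G) (A₂ : Subgroup G) (ε₂ : (Fin (2 ^ 2 + 1) → ZMod 2) → G)
    (hl : LabTwoZ S P₁ P₂ y 2 2 A ε A₂ ε₂)
    (hC : Cen (zl (S : Subgroup G) P₁) (cj y (zl (S : Subgroup G) P₂))) : IsKnownSimple' G := by
  obtain ⟨p, e, p₂, e₂, h⟩ := Entry.tt_side hG.char2 hl hC
  obtain ⟨R, R₂, x, hR, c, c₂⟩ := h.exists_pair hG.char2 S
  obtain ⟨P, V, ι, R', o, r, z, hp⟩ := NN.exists_pos hG S hT hW hR c c₂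
  exact hX G hG S hF hI P V ι R' o r z hp

/-- **`F4Nat` with the exit.** -/
theorem nat_known (hX : PosExit.{u}) (G : Type u) [Group G] [Finite G] (hG : Ctx G) (S : Sylow 2 G)
    (hF : Full (S : Subgroup G)) (hI : AllIn (S : Subgroup G)) (hT : AllTyped (S : Subgroup G))
    (hW : NoWr (S : Subgroup G)) (P₁ P₂ : Subgroup G) (y : G) (A : Subgroup G)
    (ε : (Fin (2 ^ 2 + 1) → ZMod 2) → G) (hl : LabZ S P₁ P₂ y 2 A ε) (hN : IsNat (S : Subgroup G) P₂ 1)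
    (hcv : cv (S : Subgroup G) P₂ ≠ ⊥) : IsKnownSimple' G := by
  obtain ⟨p, e, h⟩ := Entry.nat_side hG.char2 hl hN
  obtain ⟨R, x, hR, c, hne⟩ := h.exists_pair hG.char2 S hl.pair.star₂
  obtain ⟨c1, c2⟩ := NatStep.natStep G hG.char2 S P₁ P₂ y 2 A ε (by norm_num) hl hN
  obtain ⟨P, V, ι, R', o, r, z, hp⟩ := NN.exists_pos hG S hT hW ⟨hR, hne, hcv⟩ c (by omega)
  exact hX G hG S hF hI P V ι R' o r z hp

theorem f4Cen {K : Cls.{u}} (hX : PosExit.{u}) : F4Cen K :=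
  fun G _ _ hG _ S hF hI hT hW P₁ P₂ y A ε A₂ ε₂ hl _ _ hC => cen_known hX G hG S hF hI hT hW P₁ P₂ y A ε A₂ ε₂ hl hC

theorem f4Nat {K : Cls.{u}} (hX : PosExit.{u}) : F4Nat K :=
  fun G _ _ hG _ S hF hI hT hW P₁ P₂ y A ε hl hN _ _ hcv => nat_known hX G hG S hF hI hT hW P₁ P₂ y A ε hl hN hcv

/-- **LeafF4**: the cases `m = 2`, `n` 2-central and `m = 2`, natural partner are closed by the exit `PosExit`. -/
theorem leafF4_of {K : Cls.{u}} (hX : PosExit.{u}) (h1 : F4NC.{u}) (h4 : F4NatBig K) (h5 : F4SymBig K) :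
    LeafF4 K :=
  F4Leaf.Main.leafF4_of F4Leaf.Split.splitStep NatStep.natStep h1 (f4Cen hX) (f4Nat hX) h4 h5

end Cfsg.Agent.Omega.F4Leaf.Cen.Main
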